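import Mathlib
import Cfsg.Prelude
import Cfsg.Agent.S5421
import Cfsg.Agent.Helper9.Core
import Cfsg.Agent.Helper5.CharP2
import Cfsg.Agent.Helper3.ExtraCore

set_option autoImplicit false

/-!
The centralizer of an involution that is the split extension of an extraspecial group of order
`2 ^ 7` by a group of order 168: the conclusions from data given element by element, and the
invariance of the data under isomorphisms.
-/

namespace Cfsg.Agent.Helper9.C2A

open Cfsg

/-- the data, element by element. -/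
structure Data {G : Type*} [Group G] (z : G) (Q K U1 U2 E : Subgroup G) (b : G) : Prop where
  hz : orderOf z = 2
  hQC : ∀ q ∈ Q, q * z = z * q
  hKC : ∀ k ∈ K, k * z = z * k
  hKQ : ∀ k ∈ K, ∀ q ∈ Q, k * q * k⁻¹ ∈ Q
  cardQ : Nat.card Q = 2 ^ 7
  cardK : Nat.card K = 168
  hQK : ∀ x ∈ Q, x ∈ K → x = 1
  cardC : Nat.card (Subgroup.centralizer ({z} : Set G)) = 21504
  zQ : z ∈ Q
  comm : ∀ x ∈ Q, ∀ y ∈ Q, x * y * x⁻¹ * y⁻¹ = 1 ∨ x * y * x⁻¹ * y⁻¹ = z
  sq : ∀ x ∈ Q, x * x = 1 ∨ x * x = z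
  cen : ∀ x ∈ Q, (∀ y ∈ Q, x * y = y * x) → x = 1 ∨ x = z
  isoK : Nonempty (K ≃* Matrix.SpecialLinearGroup (Fin 3) (ZMod 2))
  hU1K : U1 ≤ K
  hU2K : U2 ≤ K
  cardU1 : Nat.card U1 = 2 ^ 3
  cardU2 : Nat.card U2 = 2 ^ 3
  hUU : ∀ x ∈ U1, x ∈ U2 → x = 1
  hEQ : E ≤ Q
  zE : z ∈ E
  Ecomm : ∀ x ∈ E, ∀ y ∈ E, x * y = y * x
  Esq : ∀ x ∈ E, x * x = 1
  cardE : Nat.card E = 2 ^ 4
  bE : b ∈ E
  b1 : b ≠ 1
  bz : b ≠ z
  hbE : ∀ c : G, c * b = b * c → ∀ e ∈ E, c * e * c⁻¹ ∈ E
  faith : ∀ k ∈ K, k ≠ 1 → ∃ s ∈ Q, k * s * k⁻¹ ≠ s ∧ k * s * k⁻¹ ≠ z * s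

theorem exists_sylow_eq {H : Type*} [Group H] [Finite H] (P : Subgroup H) (n : ℕ)
    (hP : Nat.card P = 2 ^ n) (hn : ¬ 2 ^ (n + 1) ∣ Nat.card H) :
    ∃ S : Sylow 2 H, (S : Subgroup H) = P := by
  have : Fact (Nat.Prime 2) := ⟨Nat.prime_two⟩
  have hG0 : Nat.card H ≠ 0 := Nat.card_pos.ne'
  have hdvd : 2 ^ n ∣ Nat.card H := hP ▸ Subgroup.card_subgroup_dvd_card P
  have h1 : n ≤ (Nat.card H).factorization 2 :=
    (Nat.prime_two.pow_dvd_iff_le_factorization hG0).mp hdvd
  have h2 : ¬ n + 1 ≤ (Nat.card H).factorization 2 :=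
    fun h => hn ((Nat.prime_two.pow_dvd_iff_le_factorization hG0).mpr h)
  have hfac : (Nat.card H).factorization 2 = n := by omega
  exact ⟨Sylow.ofCard P (by rw [hP, hfac]), rfl⟩

namespace Data

variable {G : Type*} [Group G] {z : G} {Q K U1 U2 E : Subgroup G} {b : G}

theorem mem_C {x : G} : x ∈ Subgroup.centralizer ({z} : Set G) ↔ x * z = z * x :=
  Subgroup.mem_centralizer_singleton_iff

section

variable (h : Data z Q K U1 U2 E b)

include h

theorem Q_le : Q ≤ Subgroup.centralizer ({z} : Set G) := fun q hq => mem_C.mpr (h.hQC q hq)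

theorem K_le : K ≤ Subgroup.centralizer ({z} : Set G) := fun q hq => mem_C.mpr (h.hKC q hq)

theorem z_ne_one : z ≠ 1 := by
  intro hz1
  have := h.hz
  rw [hz1, orderOf_one] at this
  omega

theorem z_sq : z * z = 1 := by
  have := pow_orderOf_eq_one z
  rw [h.hz, pow_two] at this
  exact this

theorem decomp [Finite G] :
    ∀ c ∈ Subgroup.centralizer ({z} : Set G), ∃ q ∈ Q, ∃ k ∈ K, c = q * k := by
  have hinj : Function.Injective (fun p : ↥Q × ↥K =>
      (⟨p.1.1 * p.2.1, Subgroup.mul_mem _ (h.Q_le p.1.2) (h.K_le p.2.2)⟩ :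
        ↥(Subgroup.centralizer ({z} : Set G)))) := by
    rintro ⟨q, k⟩ ⟨q', k'⟩ e
    have e1 : (q : G) * k = q' * k' := congrArg Subtype.val e
    have e2 : (q' : G)⁻¹ * q = k' * (k : G)⁻¹ := by
      calc (q' : G)⁻¹ * q = (q' : G)⁻¹ * (q * k) * (k : G)⁻¹ := by group
        _ = (q' : G)⁻¹ * (q' * k') * (k : G)⁻¹ := by rw [e1]
        _ = k' * (k : G)⁻¹ := by group
    have e3 : (q' : G)⁻¹ * q = 1 := by
      apply h.hQK _ (Q.mul_mem (Q.inv_mem q'.2) q.2)
      rw [e2]
      exact K.mul_mem k'.2 (K.inv_mem k.2)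
    have e4 : (q : G) = q' := by
      have := congrArg (fun x => (q' : G) * x) e3
      simpa using this
    have e5 : (k : G) = k' := by
      rw [e3] at e2
      have := congrArg (fun x => x * (k : G)) e2
      simpa using this
    exact Prod.ext (Subtype.ext e4) (Subtype.ext e5)
  have hcard : Nat.card ↥(Subgroup.centralizer ({z} : Set G)) ≤ Nat.card (↥Q × ↥K) := by
    rw [Nat.card_prod, h.cardQ, h.cardK, h.cardC]
    norm_num
  have hbij := hinj.bijective_of_nat_card_le hcard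
  intro c hc
  obtain ⟨⟨q, k⟩, e⟩ := hbij.2 ⟨c, hc⟩
  exact ⟨q, q.2, k, k.2, (congrArg Subtype.val e).symm⟩

theorem normalQ [Finite G] :
    ∀ c ∈ Subgroup.centralizer ({z} : Set G), ∀ x ∈ Q, c * x * c⁻¹ ∈ Q := by
  intro c hc x hx
  obtain ⟨q, hq, k, hk, rfl⟩ := h.decomp c hc
  have e : q * k * x * (q * k)⁻¹ = q * (k * x * k⁻¹) * q⁻¹ := by group
  rw [e]
  exact Q.mul_mem (Q.mul_mem hq (h.hKQ k hk x hx)) (Q.inv_mem hq)

theorem C_le_normalizer [Finite G] :
    Subgroup.centralizer ({z} : Set G) ≤ Subgroup.normalizer (Q : Set G) := by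
  intro c hc
  rw [Subgroup.mem_normalizer_iff]
  intro x
  constructor
  · exact h.normalQ c hc x
  · intro hx
    have := h.normalQ c⁻¹ (Subgroup.inv_mem _ hc) _ hx
    have e : c⁻¹ * (c * x * c⁻¹) * c⁻¹⁻¹ = x := by group
    rwa [e] at this

theorem Q_le_pCore [Finite G] :
    Q ≤ (pCore 2 ↥(Subgroup.centralizer ({z} : Set G))).map
      (Subgroup.centralizer ({z} : Set G)).subtype :=
  Cfsg.Agent.Helper5.le_pCore_map_subtype _ Q h.Q_le (IsPGroup.of_card h.cardQ)
    h.C_le_normalizer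

theorem pCore_eq [Finite G] :
    (pCore 2 ↥(Subgroup.centralizer ({z} : Set G))).map
      (Subgroup.centralizer ({z} : Set G)).subtype = Q := by
  have : Fact (Nat.Prime 2) := ⟨Nat.prime_two⟩
  apply le_antisymm
  · rintro _ ⟨y, hy, rfl⟩
    obtain ⟨q, hq, k, hk, e⟩ := h.decomp y.1 y.2
    -- the component in the complement lies in the core
    have hqR : (⟨q, h.Q_le hq⟩ : ↥(Subgroup.centralizer ({z} : Set G))) ∈
        pCore 2 ↥(Subgroup.centralizer ({z} : Set G)) := by
      obtain ⟨y', hy', e'⟩ := h.Q_le_pCore hq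
      have : y' = ⟨q, h.Q_le hq⟩ := Subtype.ext e'
      rw [← this]
      exact hy'
    have hkR : (⟨k, h.K_le hk⟩ : ↥(Subgroup.centralizer ({z} : Set G))) ∈
        pCore 2 ↥(Subgroup.centralizer ({z} : Set G)) := by
      have e2 : (⟨k, h.K_le hk⟩ : ↥(Subgroup.centralizer ({z} : Set G))) =
          (⟨q, h.Q_le hq⟩ : ↥(Subgroup.centralizer ({z} : Set G)))⁻¹ * y := by
        apply Subtype.ext
        show k = q⁻¹ * y.1
        rw [e]
        group
      rw [e2]
      exact Subgroup.mul_mem _ (Subgroup.inv_mem _ hqR) hy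
    -- the intersection of the core with the complement
    have hnormal : (pCore 2 ↥(Subgroup.centralizer ({z} : Set G))).Normal :=
      Cfsg.Agent.Helper9.pCore_normal
    have hN : ((pCore 2 ↥(Subgroup.centralizer ({z} : Set G))).comap
        (Subgroup.inclusion h.K_le)).Normal := hnormal.comap _
    have hNp : IsPGroup 2 ↥((pCore 2 ↥(Subgroup.centralizer ({z} : Set G))).comap
        (Subgroup.inclusion h.K_le)) :=
      (Cfsg.Agent.Helper9.pCore_isPGroup).comap_of_injective _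
        (Subgroup.inclusion_injective h.K_le)
    have hn : ¬ 2 ^ (3 + 1) ∣ Nat.card ↥K := by
      rw [h.cardK]
      norm_num
    have c1 : Nat.card (U1.subgroupOf K) = 2 ^ 3 := by
      rw [Nat.card_congr (Subgroup.subgroupOfEquivOfLe h.hU1K).toEquiv]
      exact h.cardU1
    have c2 : Nat.card (U2.subgroupOf K) = 2 ^ 3 := by
      rw [Nat.card_congr (Subgroup.subgroupOfEquivOfLe h.hU2K).toEquiv]
      exact h.cardU2
    obtain ⟨S1, hS1⟩ := exists_sylow_eq _ 3 c1 hn
    obtain ⟨S2, hS2⟩ := exists_sylow_eq _ 3 c2 hn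
    have hkN : (⟨k, hk⟩ : ↥K) ∈ (pCore 2 ↥(Subgroup.centralizer ({z} : Set G))).comap
        (Subgroup.inclusion h.K_le) := hkR
    have m1 : (⟨k, hk⟩ : ↥K) ∈ (S1 : Subgroup ↥K) :=
      Cfsg.Agent.Helper9.normal_pgroup_le_sylow _ hNp S1 hkN
    have m2 : (⟨k, hk⟩ : ↥K) ∈ (S2 : Subgroup ↥K) :=
      Cfsg.Agent.Helper9.normal_pgroup_le_sylow _ hNp S2 hkN
    rw [hS1, Subgroup.mem_subgroupOf] at m1
    rw [hS2, Subgroup.mem_subgroupOf] at m2
    have hk1 : k = 1 := h.hUU k m1 m2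
    show y.1 ∈ Q
    rw [e, hk1, mul_one]
    exact hq
  · exact h.Q_le_pCore

/-- the central element as an element of the subgroup. -/
theorem zq_central (g : ↥Q) : g * (⟨z, h.zQ⟩ : ↥Q) = ⟨z, h.zQ⟩ * g :=
  Subtype.ext (h.hQC g g.2)

theorem mem_center_iff (x : ↥Q) : x ∈ Subgroup.center ↥Q ↔ x = 1 ∨ x = ⟨z, h.zQ⟩ := by
  rw [Subgroup.mem_center_iff]
  constructor
  · intro hx
    have := h.cen x x.2 (fun y hy => by
      have := congrArg Subtype.val (hx ⟨y, hy⟩)
      exact this.symm)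
    rcases this with e | e
    · exact Or.inl (Subtype.ext e)
    · exact Or.inr (Subtype.ext e)
  · rintro (rfl | rfl)
    · intro g
      rw [mul_one, one_mul]
    · exact h.zq_central

theorem mem_ZQ_iff (x : G) : x ∈ (Subgroup.center ↥Q).map Q.subtype ↔ x = 1 ∨ x = z := by
  constructor
  · rintro ⟨y, hy, rfl⟩
    rcases (h.mem_center_iff y).mp hy with e | e
    · left
      rw [e]
      rfl
    · right
      rw [e]
      rfl
  · rintro (rfl | rfl)
    · exact Subgroup.one_mem _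
    · exact ⟨⟨x, h.zQ⟩, (h.mem_center_iff _).mpr (Or.inr rfl), rfl⟩

theorem extraspecial [Finite G] : IsExtraspecial 2 ↥Q := by
  have : Fact (Nat.Prime 2) := ⟨Nat.prime_two⟩
  have hIn : Cfsg.Agent.Helper3.Extra.InClass 2 ↥Q := by
    refine ⟨?_, ?_, ?_⟩
    · rw [Nat.card_eq_two_iff]
      refine ⟨⟨1, Subgroup.one_mem _⟩, ⟨⟨z, h.zQ⟩, (h.mem_center_iff _).mpr (Or.inr rfl)⟩, ?_, ?_⟩
      · intro e
        have e1 := congrArg (fun x : ↥(Subgroup.center ↥Q) => ((x : ↥Q) : G)) e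
        exact h.z_ne_one e1.symm
      · apply Set.eq_univ_of_forall
        intro x
        rcases (h.mem_center_iff x.1).mp x.2 with e | e
        · left
          exact Subtype.ext e
        · right
          exact Subtype.ext e
    · intro x y
      rw [h.mem_center_iff, commutatorElement_def]
      rcases h.comm x x.2 y y.2 with e | e
      · left
        exact Subtype.ext e
      · right
        exact Subtype.ext e
    · intro x
      rw [h.mem_center_iff, pow_two]
      rcases h.sq x x.2 with e | e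
      · left
        exact Subtype.ext e
      · right
        exact Subtype.ext e
  exact hIn.isExtraspecial (by rw [h.cardQ]; norm_num)

theorem centralizer_Q [Finite G] :
    Subgroup.centralizer (Q : Set G) = (Subgroup.center ↥Q).map Q.subtype := by
  ext x
  rw [h.mem_ZQ_iff, Subgroup.mem_centralizer_iff]
  constructor
  · intro hx
    have hxC : x ∈ Subgroup.centralizer ({z} : Set G) := mem_C.mpr (hx z h.zQ).symm
    obtain ⟨q, hq, k, hk, rfl⟩ := h.decomp x hxC
    have hk1 : k = 1 := by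
      by_contra hne
      obtain ⟨s, hs, n1, n2⟩ := h.faith k hk hne
      have e1 : s * (q * k) = q * k * s := hx s hs
      have e2 : k * s * k⁻¹ = q⁻¹ * s * q := by
        calc k * s * k⁻¹ = q⁻¹ * (q * k * s) * k⁻¹ := by group
          _ = q⁻¹ * (s * (q * k)) * k⁻¹ := by rw [e1]
          _ = q⁻¹ * s * q := by group
      rcases h.comm q⁻¹ (Q.inv_mem hq) s hs with e | e
      · apply n1
        rw [e2]
        have : q⁻¹ * s * q = (q⁻¹ * s * q⁻¹⁻¹ * s⁻¹) * s := by group
        rw [this, e, one_mul]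
      · apply n2
        rw [e2]
        have : q⁻¹ * s * q = (q⁻¹ * s * q⁻¹⁻¹ * s⁻¹) * s := by group
        rw [this, e]
    rw [hk1, mul_one]
    apply h.cen q hq
    intro y hy
    have := hx y hy
    rw [hk1, mul_one] at this
    exact this.symm
  · rintro (rfl | rfl)
    · intro s _
      rw [mul_one, one_mul]
    · intro s hs
      exact h.hQC s hs

theorem centralizer_ZQ_le [Finite G] :
    Subgroup.centralizer (((Subgroup.center ↥Q).map Q.subtype : Subgroup G) : Set G) ≤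
      Subgroup.normalizer (Q : Set G) := by
  intro x hx
  apply h.C_le_normalizer
  rw [Subgroup.mem_centralizer_iff] at hx
  exact mem_C.mpr (hx z ((h.mem_ZQ_iff z).mpr (Or.inr rfl))).symm

theorem b_sq : b * b = 1 := h.Esq b h.bE

theorem order_b : orderOf b = 2 := by
  have : Fact (Nat.Prime 2) := ⟨Nat.prime_two⟩
  apply orderOf_eq_prime
  · rw [pow_two]
    exact h.b_sq
  · exact h.b1

theorem ZQ_le_pCore [Finite G] : (Subgroup.center ↥Q).map Q.subtype ≤
    (pCore 2 ↥(Subgroup.centralizer ({b} : Set G))).map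
      (Subgroup.centralizer ({b} : Set G)).subtype := by
  have hE : E ≤ (pCore 2 ↥(Subgroup.centralizer ({b} : Set G))).map
      (Subgroup.centralizer ({b} : Set G)).subtype := by
    apply Cfsg.Agent.Helper5.le_pCore_map_subtype _ E ?_ (IsPGroup.of_card h.cardE) ?_
    · intro e he
      rw [Subgroup.mem_centralizer_singleton_iff]
      exact h.Ecomm e he b h.bE
    · intro c hc
      rw [Subgroup.mem_centralizer_singleton_iff] at hc
      have hc' : c⁻¹ * b = b * c⁻¹ := by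
        have := congrArg (fun x => c⁻¹ * x * c⁻¹) hc
        simp only [mul_assoc, inv_mul_cancel_left, mul_inv_cancel, mul_one] at this
        exact this.symm
      rw [Subgroup.mem_normalizer_iff]
      intro x
      constructor
      · exact h.hbE c hc x
      · intro hx
        have := h.hbE c⁻¹ hc' _ hx
        have e : c⁻¹ * (c * x * c⁻¹) * c⁻¹⁻¹ = x := by group
        rwa [e] at this
  intro x hx
  rcases (h.mem_ZQ_iff x).mp hx with rfl | rfl
  · exact Subgroup.one_mem _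
  · exact hE h.zE

theorem large [Finite G] : IsLargeExtraspecial Q := by
  apply Cfsg.Agent.S5421.result Q h.extraspecial h.centralizer_Q h.centralizer_ZQ_le b
    (h.hEQ h.bE) ?_ h.order_b h.ZQ_le_pCore
  rw [h.mem_ZQ_iff]
  rintro (e | e)
  · exact h.b1 e
  · exact h.bz e

theorem sup_eq [Finite G] : Q ⊔ K = Subgroup.centralizer ({z} : Set G) := by
  apply le_antisymm
  · exact sup_le h.Q_le h.K_le
  · intro c hc
    obtain ⟨q, hq, k, hk, rfl⟩ := h.decomp c hc
    exact Subgroup.mul_mem _ (Subgroup.mem_sup_left hq) (Subgroup.mem_sup_right hk)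

theorem inf_eq : Q ⊓ K = ⊥ := by
  rw [eq_bot_iff]
  intro x hx
  rw [Subgroup.mem_bot]
  exact h.hQK x hx.1 hx.2

theorem elemAb : IsElementaryAbelian 2 E := by
  refine ⟨⟨⟨fun a b => Subtype.ext (h.Ecomm a a.2 b b.2)⟩⟩, ?_⟩
  intro a ha
  rw [pow_two]
  exact h.Esq a ha

/-- the conclusions. -/
theorem main [Finite G] (Q' : Subgroup G)
    (hQ' : Q' = (pCore 2 ↥(Subgroup.centralizer ({z} : Set G))).map
      (Subgroup.centralizer ({z} : Set G)).subtype) :
    IsExtraspecial 2 ↥Q' ∧ Nat.card ↥Q' = 2 ^ 7 ∧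
      (∃ E : Subgroup G, E ≤ Q' ∧ IsElementaryAbelian 2 E ∧ Nat.card ↥E = 2 ^ 4) ∧
      IsLargeExtraspecial Q' ∧
      ∃ K : Subgroup G, K ≤ Subgroup.centralizer ({z} : Set G) ∧ Q' ⊓ K = ⊥ ∧
        Q' ⊔ K = Subgroup.centralizer ({z} : Set G) ∧
        Nonempty (↥K ≃* Matrix.SpecialLinearGroup (Fin 3) (ZMod 2)) := by
  rw [h.pCore_eq] at hQ'
  subst hQ'
  exact ⟨h.extraspecial, h.cardQ, ⟨E, h.hEQ, h.elemAb, h.cardE⟩, h.large,
    ⟨K, h.K_le, h.inf_eq, h.sup_eq, h.isoK⟩⟩

end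

end Data

end Cfsg.Agent.Helper9.C2A
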