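import Mathlib
import Cfsg.Prelude
import Cfsg.Agent.Helper9.C2A.Data

set_option autoImplicit false
set_option Elab.async false

/-! Matrices of degree five over the field of two elements for the elements of the normal subgroup
of order 128 and of the complement of order 168 of the centralizer of the involution, and the
checks on them. -/

namespace Cfsg.Agent.Helper9.C2A

open Cfsg Cfsg.Agent.Helper9.Golay

def caQ5 : ℕ := 0x820820c9061064a3083051041928820c14610608308324104182082ac9061564a30ab05105592882bc14615e0830af241057920c2ec1041760a20bf25185f828c2ec9441764820bf04185f820c2ec9041764a20bf05185f928c2ec1441760820bf24185f928c2dc1441660820b7241859820c2dc9041664a20b7051859928c27c14413608209f24184d820c26c90413e4a209b05184f828828c94614e4830a7041051920829c1061460a30a3251053828c2dc9441664820b7041859920c2dc1041660a20b7251859920c24c1041260a209725184b828c25c94412e482093041849928828c14614e0830a7241051820829c9061464a30a3051053828c26c94413e48209b04184f920c27c1041360a209f25184d828822c94611e48308f041045920822c10611e0a308f25104592082ac1061560a30ab25105582882bc94615e4830af041057820c25c90412e4a2093051849928c24c14412608209724184b928823c14611608308b241047820823c9061164a308b051047920821c10610e0a3087251043828821c94610e483087041043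

def caK5 : ℕ := 0x8208209952107447082c36041e39020ba5a1065c3083ed2841c41820a31c1049e8082a67841d20c20c1ca105507083c23041369020b384107d2c082836841233820b9501071e90832c784122b020b2481050c9083cd4041c11420c39a107ce3082ac1041d43820c90c104de7082e37841819820e98a105d84083226841e28c20ab92107c88082493841c3b8209a181051e2082cd7841712420ab4c1050ec083834041e61c20b206104dc5083e6684192b820ea441061e4082447841a31020d0ce10690d083451041a49820d1121069c8083426041a6b820d30a1069e30834778416620209208106465082ed1041e23020a38e107ca6083a7484134b820e1861055ed083027841c50820ba86107548082aa6041251420f29a105146083ea3841951020c29c1059490826a7841b41420db12106cc2083646841b3a020d94e106dc60836d1841b13820d8c8106dec083697841969c20a0901055230826c3041e1a420c1981071c4083e8104172382091da1059e5083a5784144a82099d41061aa083265041c2a820f21410498a083ae5041f1a820b11410544a082ef504162b420e10e1049a90830c1841e49420c9c4105dcc083e22041332020a8dc1075e608288784135b420cad81049660828b1841d59020f2c4105568083eb4841759420b2dc1061670838b784153ac20e25610584b082e85841322c20f19610746b0824e5841f62c20c1561051ab0832f5841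

def caQ5G : List ℕ := [17109063, 17111121, 17109059, 19140685, 17109085, 17043539]

def caK5G : List ℕ := [21303361, 9203777]

def caTrip : List (ℕ × ℕ × ℕ) := [(104, 8, 8), (104, 73, 117), (104, 3, 3), (104, 45, 82), (104, 98, 65), (104, 51, 24), (158, 8, 87), (158, 73, 70), (158, 3, 2), (158, 45, 107), (158, 98, 9), (158, 51, 93)]

/-- the matrix of degree five of a number. -/
def dec5 (c : ℕ) : Matrix (Fin 5) (Fin 5) (ZMod 2) :=
  Matrix.of fun i j => if c.testBit (5 * i.val + j.val) then 1 else 0

/-- the matrix of an element of the normal subgroup. -/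
def phiQ (i : ℕ) : Matrix (Fin 5) (Fin 5) (ZMod 2) := dec5 (fld caQ5 25 i)

/-- the matrix of a generator of the normal subgroup. -/
def gamQ (k : ℕ) : Matrix (Fin 5) (Fin 5) (ZMod 2) := dec5 (caQ5G.getD k 0)

/-- the matrix of an element of the complement. -/
def phiK (i : ℕ) : Matrix (Fin 5) (Fin 5) (ZMod 2) := dec5 (fld caK5 25 i)

/-- the matrix of a generator of the complement. -/
def gamK (k : ℕ) : Matrix (Fin 5) (Fin 5) (ZMod 2) := dec5 (caK5G.getD k 0)

/-- the lower right block of a matrix. -/
def blk3 (M : Matrix (Fin 5) (Fin 5) (ZMod 2)) : Matrix (Fin 3) (Fin 3) (ZMod 2) :=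
  M.submatrix (fun a => a.succ.succ) (fun a => a.succ.succ)

theorem phiQ_one : phiQ caQ.z = 1 := by decide +kernel

theorem phiQ_next : ∀ i < caQ.n, ∀ k < caQ.gens.length,
    phiQ (caQ.nextOf i k) = phiQ i * gamQ k := by decide +kernel

theorem phiQ_inj : ∀ i < caQ.n, phiQ i = 1 → i = caQ.z := by decide +kernel

theorem phiK_one : phiK caK.z = 1 := by decide +kernel

theorem phiK_next : ∀ i < caK.n, ∀ k < caK.gens.length,
    phiK (caK.nextOf i k) = phiK i * gamK k := by decide +kernel

theorem phiK_inj : ∀ i < caK.n, phiK i = 1 → i = caK.z := by decide +kernel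

theorem phiQ_comm : ∀ i < caQ.n,
    phiQ i * Matrix.single 0 1 1 = Matrix.single 0 1 1 * phiQ i := by decide +kernel

theorem phiK_comm : ∀ i < caK.n,
    phiK i * Matrix.single 0 1 1 = Matrix.single 0 1 1 * phiK i := by decide +kernel

theorem phiQ_blk : ∀ i < caQ.n, blk3 (phiQ i) = 1 := by decide +kernel

theorem phiK_blk : ∀ i < caK.n, blk3 (phiK i) = 1 → i = caK.z := by decide +kernel

theorem ca_trip_cover : caK.gens.all (fun ks => caQ.gens.all (fun qs =>
    caTrip.any (fun e => caK.acc e.1 == ks && caQ.acc e.2.1 == qs))) = true := by decide +kernel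

theorem ca_trip_ok : ∀ e ∈ caTrip, e.1 < caK.n ∧ e.2.1 < caQ.n ∧ e.2.2 < caQ.n ∧
    mulT (caQ.acc e.2.2) (caK.acc e.1) = mulT (caK.acc e.1) (caQ.acc e.2.1) ∧
    phiQ e.2.2 * phiK e.1 = phiK e.1 * phiQ e.2.1 := by decide +kernel

end Cfsg.Agent.Helper9.C2A
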