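import Mathlib
import Cfsg.Prelude
import Cfsg.Agent.Helper9.C2A.Abs

set_option autoImplicit false

/-!
The data of `Abs` is carried along isomorphisms.
-/

namespace Cfsg.Agent.Helper9.C2A

open Cfsg

theorem Data.map {G G' : Type*} [Group G] [Group G'] (φ : G ≃* G') {z : G}
    {Q K U1 U2 E : Subgroup G} {b : G} (h : Data z Q K U1 U2 E b) :
    Data (φ z) (Q.map φ.toMonoidHom) (K.map φ.toMonoidHom) (U1.map φ.toMonoidHom)
      (U2.map φ.toMonoidHom) (E.map φ.toMonoidHom) (φ b) where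
  hz := by rw [MulEquiv.orderOf_eq]; exact h.hz
  hQC := by
    rintro _ ⟨q, hq, rfl⟩
    change φ q * φ z = φ z * φ q
    rw [← map_mul, ← map_mul, h.hQC q hq]
  hKC := by
    rintro _ ⟨q, hq, rfl⟩
    change φ q * φ z = φ z * φ q
    rw [← map_mul, ← map_mul, h.hKC q hq]
  hKQ := by
    rintro _ ⟨k, hk, rfl⟩ _ ⟨q, hq, rfl⟩
    refine ⟨k * q * k⁻¹, h.hKQ k hk q hq, ?_⟩
    change φ (k * q * k⁻¹) = φ k * φ q * (φ k)⁻¹
    rw [map_mul, map_mul, map_inv]
  cardQ := by rw [Subgroup.card_map_of_injective φ.injective]; exact h.cardQ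
  cardK := by rw [Subgroup.card_map_of_injective φ.injective]; exact h.cardK
  hQK := by
    rintro _ ⟨q, hq, rfl⟩ ⟨k, hk, e⟩
    have e' : k = q := φ.injective e
    rw [e'] at hk
    change φ q = 1
    rw [h.hQK q hq hk, map_one]
  cardC := by
    rw [← h.cardC]
    apply Nat.card_congr
    refine ⟨fun x => ⟨φ.symm x.1, ?_⟩, fun x => ⟨φ x.1, ?_⟩, ?_, ?_⟩
    · have hx := Subgroup.mem_centralizer_singleton_iff.mp x.2
      rw [Subgroup.mem_centralizer_singleton_iff]
      apply φ.injective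
      rw [map_mul, map_mul, MulEquiv.apply_symm_apply]
      exact hx
    · have hx := Subgroup.mem_centralizer_singleton_iff.mp x.2
      rw [Subgroup.mem_centralizer_singleton_iff, ← map_mul, ← map_mul, hx]
    · intro x
      apply Subtype.ext
      exact φ.apply_symm_apply x.1
    · intro x
      apply Subtype.ext
      exact φ.symm_apply_apply x.1
  zQ := ⟨z, h.zQ, rfl⟩
  comm := by
    rintro _ ⟨x, hx, rfl⟩ _ ⟨y, hy, rfl⟩
    change φ x * φ y * (φ x)⁻¹ * (φ y)⁻¹ = 1 ∨ φ x * φ y * (φ x)⁻¹ * (φ y)⁻¹ = φ z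
    rw [← map_inv, ← map_inv, ← map_mul, ← map_mul, ← map_mul]
    rcases h.comm x hx y hy with e | e
    · left
      rw [e, map_one]
    · right
      rw [e]
  sq := by
    rintro _ ⟨x, hx, rfl⟩
    change φ x * φ x = 1 ∨ φ x * φ x = φ z
    rw [← map_mul]
    rcases h.sq x hx with e | e
    · left
      rw [e, map_one]
    · right
      rw [e]
  cen := by
    rintro _ ⟨x, hx, rfl⟩ hall
    change φ x = 1 ∨ φ x = φ z
    have : ∀ y ∈ Q, x * y = y * x := by
      intro y hy
      apply φ.injective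
      rw [map_mul, map_mul]
      exact hall _ ⟨y, hy, rfl⟩
    rcases h.cen x hx this with e | e
    · left
      rw [e, map_one]
    · right
      rw [e]
  isoK := by
    obtain ⟨e⟩ := h.isoK
    exact ⟨(K.equivMapOfInjective φ.toMonoidHom φ.injective).symm.trans e⟩
  hU1K := Subgroup.map_mono h.hU1K
  hU2K := Subgroup.map_mono h.hU2K
  cardU1 := by rw [Subgroup.card_map_of_injective φ.injective]; exact h.cardU1
  cardU2 := by rw [Subgroup.card_map_of_injective φ.injective]; exact h.cardU2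
  hUU := by
    rintro _ ⟨x, hx, rfl⟩ ⟨y, hy, e⟩
    have e' : y = x := φ.injective e
    rw [e'] at hy
    change φ x = 1
    rw [h.hUU x hx hy, map_one]
  hEQ := Subgroup.map_mono h.hEQ
  zE := ⟨z, h.zE, rfl⟩
  Ecomm := by
    rintro _ ⟨x, hx, rfl⟩ _ ⟨y, hy, rfl⟩
    change φ x * φ y = φ y * φ x
    rw [← map_mul, ← map_mul, h.Ecomm x hx y hy]
  Esq := by
    rintro _ ⟨x, hx, rfl⟩
    change φ x * φ x = 1
    rw [← map_mul, h.Esq x hx, map_one]
  cardE := by rw [Subgroup.card_map_of_injective φ.injective]; exact h.cardE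
  bE := ⟨b, h.bE, rfl⟩
  b1 := by
    intro e
    apply h.b1
    apply φ.injective
    rw [e, map_one]
  bz := fun e => h.bz (φ.injective e)
  hbE := by
    rintro c hc _ ⟨e, he, rfl⟩
    have hc' : φ.symm c * b = b * φ.symm c := by
      apply φ.injective
      rw [map_mul, map_mul, MulEquiv.apply_symm_apply]
      exact hc
    refine ⟨φ.symm c * e * (φ.symm c)⁻¹, h.hbE _ hc' e he, ?_⟩
    change φ (φ.symm c * e * (φ.symm c)⁻¹) = c * φ e * c⁻¹
    rw [map_mul, map_mul, map_inv, MulEquiv.apply_symm_apply]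
  faith := by
    rintro _ ⟨k, hk, rfl⟩ hne
    have hk1 : k ≠ 1 := by
      intro e
      apply hne
      change φ k = 1
      rw [e, map_one]
    obtain ⟨s, hs, n1, n2⟩ := h.faith k hk hk1
    refine ⟨φ s, ⟨s, hs, rfl⟩, ?_, ?_⟩
    · change φ k * φ s * (φ k)⁻¹ ≠ φ s
      rw [← map_inv, ← map_mul, ← map_mul]
      exact fun e => n1 (φ.injective e)
    · change φ k * φ s * (φ k)⁻¹ ≠ φ z * φ s
      rw [← map_inv, ← map_mul, ← map_mul, ← map_mul]
      exact fun e => n2 (φ.injective e)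

end Cfsg.Agent.Helper9.C2A
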