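import Mathlib
import Cfsg.Prelude
import Cfsg.Agent.Helper9.C2A.Data
import Cfsg.Agent.Helper9.C2A.Map
import Cfsg.Agent.Helper9.Golay.Syl2Thm
import Cfsg.Agent.S0445

set_option autoImplicit false

/-!
The centralizer in the group of the code of an involution that fixes the points of an octad.
-/

namespace Cfsg.Agent.Helper9.C2A

open Cfsg Cfsg.Agent.Helper9.Golay
open scoped Pointwise

/-! ### tables and elements -/

theorem tbl_unique {σ : Equiv.Perm GolayPt} {t t' : List ℕ} (h : IsTbl σ t) (h' : IsTbl σ t') :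
    t = t' := by
  rw [tbl_eq_tblOf h, tbl_eq_tblOf h']

theorem eq_of_tbl {x y : ↥M24} {t : List ℕ} (hx : IsTbl (x : Equiv.Perm GolayPt) t)
    (hy : IsTbl (y : Equiv.Perm GolayPt) t) : x = y :=
  Subtype.ext (hx.eq_of_eq hy)

theorem tbl_mul {x y : ↥M24} {s t : List ℕ} (hx : IsTbl (x : Equiv.Perm GolayPt) s)
    (hy : IsTbl (y : Equiv.Perm GolayPt) t) :
    IsTbl ((x * y : ↥M24) : Equiv.Perm GolayPt) (mulT s t) := hx.mul hy

theorem tbl_one : IsTbl ((1 : ↥M24) : Equiv.Perm GolayPt) idT := isTbl_one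

theorem eq_one_of_tbl {x : ↥M24} (hx : IsTbl (x : Equiv.Perm GolayPt) idT) : x = 1 :=
  eq_of_tbl hx tbl_one

/-! ### the subgroups -/

theorem caS_real {j : ℕ} (hj : j < caSN) : ∃ σ ∈ M24, IsTbl σ (caS.acc j) :=
  caS.real caS_ok j hj

theorem caQ_gens_real : ∀ t ∈ caQ.gens, ∃ σ ∈ M24, IsTbl σ t := by
  intro t ht
  change t ∈ caQGens at ht
  rw [caQGens_eq, List.mem_map] at ht
  obtain ⟨j, hj, rfl⟩ := ht
  have := List.all_eq_true.mp caGenIdx_lt j (List.mem_append_left _ hj)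
  rw [decide_eq_true_eq] at this
  exact caS_real this

theorem caK_gens_real : ∀ t ∈ caK.gens, ∃ σ ∈ M24, IsTbl σ t := by
  intro t ht
  change t ∈ caKGens at ht
  rw [caKGens_eq, List.mem_map] at ht
  obtain ⟨j, hj, rfl⟩ := ht
  have := List.all_eq_true.mp caGenIdx_lt j (List.mem_append_right _ hj)
  rw [decide_eq_true_eq] at this
  exact caS_real this

theorem caQ_good : caQ.Good := ⟨caQ_bfs, caQ_closed, caQ_sorted, caQ_gens_real⟩

theorem caK_good : caK.Good := ⟨caK_bfs, caK_closed, caK_sorted, caK_gens_real⟩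

/-- the normal subgroup of order 128. -/
def Q0 : Subgroup ↥M24 := caQ_good.sub

/-- the complement of order 168. -/
def K0 : Subgroup ↥M24 := caK_good.sub

theorem mem_Q0 (g : ↥M24) : g ∈ Q0 ↔ ∃ t ∈ caQ.tabs, IsTbl (g : Equiv.Perm GolayPt) t := Iff.rfl

theorem mem_K0 (g : ↥M24) : g ∈ K0 ↔ ∃ t ∈ caK.tabs, IsTbl (g : Equiv.Perm GolayPt) t := Iff.rfl

theorem card_Q0 : Nat.card Q0 = 2 ^ 7 := caQ_good.card_sub

theorem card_K0 : Nat.card K0 = 168 := caK_good.card_sub

theorem exists_Q0_of_tab {t : List ℕ} (ht : t ∈ caQ.tabs) :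
    ∃ x : ↥M24, x ∈ Q0 ∧ IsTbl (x : Equiv.Perm GolayPt) t := by
  obtain ⟨σ, hσ, hσt⟩ := caQ.real_tabs caQ_bfs caQ_gens_real t ht
  exact ⟨⟨σ, hσ⟩, ⟨t, ht, hσt⟩, hσt⟩

theorem exists_K0_of_tab {t : List ℕ} (ht : t ∈ caK.tabs) :
    ∃ x : ↥M24, x ∈ K0 ∧ IsTbl (x : Equiv.Perm GolayPt) t := by
  obtain ⟨σ, hσ, hσt⟩ := caK.real_tabs caK_bfs caK_gens_real t ht
  exact ⟨⟨σ, hσ⟩, ⟨t, ht, hσt⟩, hσt⟩

theorem Q0_le (K : Subgroup ↥M24)
    (hK : ∀ s ∈ caQ.gens, ∀ x : ↥M24, IsTbl ((x : ↥M24) : Equiv.Perm GolayPt) s → x ∈ K) :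
    Q0 ≤ K := caQ.subgroup_le caQ_bfs caQ_closed caQ_gens_real K hK

theorem K0_le (K : Subgroup ↥M24)
    (hK : ∀ s ∈ caK.gens, ∀ x : ↥M24, IsTbl ((x : ↥M24) : Equiv.Perm GolayPt) s → x ∈ K) :
    K0 ≤ K := caK.subgroup_le caK_bfs caK_closed caK_gens_real K hK

/-! ### the involution -/

theorem caZ_mem : caZ ∈ caQ.tabs := by
  have := ca_Z_mem
  simpa using this

theorem caB_mem : caB ∈ caQ.tabs := by
  have := ca_B_mem
  simpa using this

theorem exists_z0 : ∃ z : ↥M24, z ∈ Q0 ∧ IsTbl (z : Equiv.Perm GolayPt) caZ :=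
  exists_Q0_of_tab caZ_mem

theorem exists_b0 : ∃ z : ↥M24, z ∈ Q0 ∧ IsTbl (z : Equiv.Perm GolayPt) caB :=
  exists_Q0_of_tab caB_mem

/-- the involution. -/
noncomputable def z0 : ↥M24 := Classical.choose exists_z0

/-- another involution that fixes the points of the octad. -/
noncomputable def b0 : ↥M24 := Classical.choose exists_b0

theorem z0_mem : z0 ∈ Q0 := (Classical.choose_spec exists_z0).1

theorem z0_tbl : IsTbl (z0 : Equiv.Perm GolayPt) caZ := (Classical.choose_spec exists_z0).2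

theorem b0_mem : b0 ∈ Q0 := (Classical.choose_spec exists_b0).1

theorem b0_tbl : IsTbl (b0 : Equiv.Perm GolayPt) caB := (Classical.choose_spec exists_b0).2

theorem z0_sq : z0 * z0 = 1 := by
  apply eq_one_of_tbl
  have := tbl_mul z0_tbl z0_tbl
  rwa [ca_ZZ] at this

theorem z0_ne_one : z0 ≠ 1 := by
  intro h
  have h1 := z0_tbl
  rw [h] at h1
  exact ca_ne.1 (tbl_unique h1 tbl_one)

theorem order_z0 : orderOf z0 = 2 := by
  have : Fact (Nat.Prime 2) := ⟨Nat.prime_two⟩
  apply orderOf_eq_prime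
  · rw [pow_two]
    exact z0_sq
  · exact z0_ne_one

/-- an element whose table commutes with the table of the involution commutes with it. -/
theorem comm_z0_of_tbl {x : ↥M24} {s : List ℕ} (hx : IsTbl (x : Equiv.Perm GolayPt) s)
    (h : mulT s caZ = mulT caZ s) : x * z0 = z0 * x := by
  apply eq_of_tbl (tbl_mul hx z0_tbl)
  rw [h]
  exact tbl_mul z0_tbl hx

theorem gens_commZ {s : List ℕ} (hs : s ∈ caQ.gens ++ caK.gens ++ p2G.gens) :
    mulT s caZ = mulT caZ s := by
  have := List.all_eq_true.mp ca_commZ s hs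
  rwa [beq_iff_eq] at this

theorem Q0_comm : ∀ q ∈ Q0, q * z0 = z0 * q := by
  have : Q0 ≤ Subgroup.centralizer ({z0} : Set ↥M24) := by
    apply Q0_le
    intro s hs x hx
    rw [Subgroup.mem_centralizer_singleton_iff]
    exact comm_z0_of_tbl hx (gens_commZ (List.mem_append_left _ (List.mem_append_left _ hs)))
  intro q hq
  exact Subgroup.mem_centralizer_singleton_iff.mp (this hq)

theorem K0_comm : ∀ q ∈ K0, q * z0 = z0 * q := by
  have : K0 ≤ Subgroup.centralizer ({z0} : Set ↥M24) := by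
    apply K0_le
    intro s hs x hx
    rw [Subgroup.mem_centralizer_singleton_iff]
    exact comm_z0_of_tbl hx (gens_commZ (List.mem_append_left _ (List.mem_append_right _ hs)))
  intro q hq
  exact Subgroup.mem_centralizer_singleton_iff.mp (this hq)

theorem P2_comm : ∀ q ∈ P2, q * z0 = z0 * q := by
  have : P2 ≤ Subgroup.centralizer ({z0} : Set ↥M24) := by
    apply p2G.subgroup_le p2_bfs p2_closed p2gens_real
    intro s hs x hx
    rw [Subgroup.mem_centralizer_singleton_iff]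
    exact comm_z0_of_tbl hx (gens_commZ (List.mem_append_right _ hs))
  intro q hq
  exact Subgroup.mem_centralizer_singleton_iff.mp (this hq)

/-! ### the complement normalizes the normal subgroup -/

theorem K0_norm : ∀ k ∈ K0, ∀ q ∈ Q0, k * q * k⁻¹ ∈ Q0 := by
  have : K0 ≤ Subgroup.normalizer (Q0 : Set ↥M24) := by
    apply K0_le
    intro ks hks τ hτ
    have hc := List.all_eq_true.mp ca_norm ks hks
    rw [Subgroup.mem_normalizer_iff]
    intro h
    constructor
    · rintro ⟨q, hq, hhq⟩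
      have h1 := List.all_eq_true.mp hc q hq
      rw [Bool.and_eq_true, List.any_eq_true, List.any_eq_true] at h1
      obtain ⟨t, ht, hte⟩ := h1.1
      rw [beq_iff_eq] at hte
      obtain ⟨y, hy, hyt⟩ := exists_Q0_of_tab ht
      have e : y * τ = τ * h := by
        apply eq_of_tbl (tbl_mul hyt hτ)
        rw [hte]
        exact tbl_mul hτ hhq
      have : τ * h * τ⁻¹ = y := by
        rw [← e, mul_inv_cancel_right]
      rw [this]
      exact hy
    · rintro ⟨q, hq, hhq⟩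
      have h1 := List.all_eq_true.mp hc q hq
      rw [Bool.and_eq_true, List.any_eq_true, List.any_eq_true] at h1
      obtain ⟨t, ht, hte⟩ := h1.2
      rw [beq_iff_eq] at hte
      obtain ⟨y, hy, hyt⟩ := exists_Q0_of_tab ht
      have e : τ * y = (τ * h * τ⁻¹) * τ := by
        apply eq_of_tbl (tbl_mul hτ hyt)
        rw [hte]
        exact tbl_mul hhq hτ
      have : h = y := by
        have e2 : τ * y = τ * h := by
          rw [e]
          group
        exact (mul_left_cancel e2).symm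
      rw [this]
      exact hy
  intro k hk q hq
  exact (Subgroup.mem_normalizer_iff.mp (this hk) q).mp hq

theorem Q0_inter_K0 : ∀ x ∈ Q0, x ∈ K0 → x = 1 := by
  rintro x ⟨t, ht, hxt⟩ ⟨t', ht', hxt'⟩
  have e := tbl_unique hxt hxt'
  subst e
  have h := List.all_eq_true.mp ca_inter t ht
  rw [Bool.or_eq_true, beq_iff_eq] at h
  rcases h with h | h
  · subst h
    exact eq_one_of_tbl hxt
  · exfalso
    rw [Bool.not_eq_true', List.contains_eq_mem, decide_eq_false_iff_not] at h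
    exact h ht'

/-! ### commutators, squares and the centre of the normal subgroup -/

theorem z0_inv : z0⁻¹ = z0 := inv_eq_of_mul_eq_one_left z0_sq

/-- the elements that commute with the involution and whose commutators with the elements of
the normal subgroup are in the group of the involution. -/
def commSub : Subgroup ↥M24 where
  carrier := {y | y * z0 = z0 * y ∧ ∀ x ∈ Q0, x * y = y * x ∨ x * y = z0 * (y * x)}
  one_mem' := by
    refine ⟨by rw [one_mul, mul_one], fun x _ => Or.inl (by rw [one_mul, mul_one])⟩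
  mul_mem' := by
    rintro a b ⟨ha, hA⟩ ⟨hb, hB⟩
    refine ⟨by rw [mul_assoc, hb, ← mul_assoc, ha, mul_assoc], ?_⟩
    intro x hx
    rcases hA x hx with e1 | e1 <;> rcases hB x hx with e2 | e2
    · left
      rw [← mul_assoc, e1, mul_assoc, e2, mul_assoc]
    · right
      calc x * (a * b) = (x * a) * b := by rw [mul_assoc]
        _ = a * (x * b) := by rw [e1, mul_assoc]
        _ = (a * z0) * (b * x) := by rw [e2]; simp only [mul_assoc]
        _ = z0 * (a * b * x) := by rw [ha]; simp only [mul_assoc]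
    · right
      calc x * (a * b) = (x * a) * b := by rw [mul_assoc]
        _ = z0 * (a * (x * b)) := by rw [e1]; simp only [mul_assoc]
        _ = z0 * (a * b * x) := by rw [e2]; simp only [mul_assoc]
    · left
      calc x * (a * b) = (x * a) * b := by rw [mul_assoc]
        _ = z0 * (a * x) * b := by rw [e1]
        _ = z0 * a * (x * b) := by simp only [mul_assoc]
        _ = z0 * a * (z0 * (b * x)) := by rw [e2]
        _ = z0 * (a * z0) * (b * x) := by simp only [mul_assoc]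
        _ = z0 * (z0 * a) * (b * x) := by rw [ha]
        _ = (z0 * z0) * a * (b * x) := by simp only [mul_assoc]
        _ = a * b * x := by rw [z0_sq, one_mul, mul_assoc]
  inv_mem' := by
    rintro a ⟨ha, hA⟩
    have ha' : a⁻¹ * z0 = z0 * a⁻¹ := by
      have := congrArg (fun t => a⁻¹ * t * a⁻¹) ha
      simp only [mul_assoc, inv_mul_cancel_left, mul_inv_cancel, mul_one] at this
      exact this.symm
    refine ⟨ha', ?_⟩
    intro x hx
    rcases hA x hx with e1 | e1
    · left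
      have := congrArg (fun t => a⁻¹ * t * a⁻¹) e1
      simp only [mul_assoc, inv_mul_cancel_left, mul_inv_cancel, mul_one] at this
      exact this.symm
    · right
      -- x a = z0 a x, so a⁻¹ x = z0 x a⁻¹ ... and x a⁻¹ = z0 a⁻¹ x
      have h1 : a⁻¹ * x = z0 * (x * a⁻¹) := by
        have := congrArg (fun t => a⁻¹ * t * a⁻¹) e1
        simp only [mul_assoc, mul_inv_cancel, mul_one] at this
        rw [this, ← mul_assoc a⁻¹ z0, ha', mul_assoc, inv_mul_cancel_left]
      calc x * a⁻¹ = (z0 * z0) * (x * a⁻¹) := by rw [z0_sq, one_mul]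
        _ = z0 * (z0 * (x * a⁻¹)) := by rw [mul_assoc]
        _ = z0 * (a⁻¹ * x) := by rw [h1]

theorem Q0_le_commSub : Q0 ≤ commSub := by
  apply Q0_le
  intro s hs y hy
  refine ⟨comm_z0_of_tbl hy (gens_commZ (List.mem_append_left _ (List.mem_append_left _ hs))), ?_⟩
  rintro x ⟨t, ht, hxt⟩
  have h := List.all_eq_true.mp (List.all_eq_true.mp ca_comm_gen t ht) s hs
  rw [Bool.or_eq_true, beq_iff_eq, beq_iff_eq] at h
  rcases h with h | h
  · left
    apply eq_of_tbl (tbl_mul hxt hy)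
    rw [h]
    exact tbl_mul hy hxt
  · right
    apply eq_of_tbl (tbl_mul hxt hy)
    rw [h]
    exact tbl_mul z0_tbl (tbl_mul hy hxt)

theorem Q0_commutator : ∀ x ∈ Q0, ∀ y ∈ Q0, x * y * x⁻¹ * y⁻¹ = 1 ∨ x * y * x⁻¹ * y⁻¹ = z0 := by
  intro x hx y hy
  rcases (Q0_le_commSub hy).2 x hx with e | e
  · left
    rw [e]
    group
  · right
    rw [e]
    group

theorem Q0_sq : ∀ x ∈ Q0, x * x = 1 ∨ x * x = z0 := by
  rintro x ⟨t, ht, hxt⟩
  have h := List.all_eq_true.mp ca_sq t ht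
  rw [Bool.or_eq_true, beq_iff_eq, beq_iff_eq] at h
  rcases h with h | h
  · left
    apply eq_one_of_tbl
    rw [← h]
    exact tbl_mul hxt hxt
  · right
    apply eq_of_tbl (tbl_mul hxt hxt)
    rw [h]
    exact z0_tbl

theorem gens_mem_tabs {s : List ℕ} (hs : s ∈ caQ.gens) : s ∈ caQ.tabs := by
  have := List.all_eq_true.mp ca_gens_mem s hs
  simpa using this

theorem Q0_center : ∀ x ∈ Q0, (∀ y ∈ Q0, x * y = y * x) → x = 1 ∨ x = z0 := by
  rintro x ⟨t, ht, hxt⟩ hall
  have h := List.all_eq_true.mp ca_cen t ht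
  have hg : caQ.gens.all (fun s => mulT t s == mulT s t) = true := by
    rw [List.all_eq_true]
    intro s hs
    obtain ⟨y, hy, hyt⟩ := exists_Q0_of_tab (gens_mem_tabs hs)
    rw [beq_iff_eq]
    have e := hall y hy
    have t1 := tbl_mul hxt hyt
    rw [e] at t1
    exact tbl_unique t1 (tbl_mul hyt hxt)
  rw [hg] at h
  simp only [Bool.not_true, Bool.false_or, Bool.or_eq_true, beq_iff_eq] at h
  rcases h with h | h
  · left
    subst h
    exact eq_one_of_tbl hxt
  · right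
    subst h
    exact eq_of_tbl hxt z0_tbl

theorem K0_faith : ∀ k ∈ K0, k ≠ 1 → ∃ s ∈ Q0, k * s * k⁻¹ ≠ s ∧ k * s * k⁻¹ ≠ z0 * s := by
  rintro k ⟨t, ht, hkt⟩ hk1
  have h := List.all_eq_true.mp ca_faith t ht
  rw [Bool.or_eq_true, beq_iff_eq] at h
  rcases h with h | h
  · exfalso
    subst h
    exact hk1 (eq_one_of_tbl hkt)
  · rw [List.any_eq_true] at h
    obtain ⟨s, hs, hse⟩ := h
    rw [Bool.and_eq_true, bne_iff_ne, bne_iff_ne] at hse
    obtain ⟨y, hy, hyt⟩ := exists_Q0_of_tab (gens_mem_tabs hs)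
    refine ⟨y, hy, ?_, ?_⟩
    · intro e
      apply hse.1
      have e' : k * y = y * k := by
        calc k * y = (k * y * k⁻¹) * k := by group
          _ = y * k := by rw [e]
      have t1 := tbl_mul hkt hyt
      rw [e'] at t1
      exact tbl_unique t1 (tbl_mul hyt hkt)
    · intro e
      apply hse.2
      have e' : k * y = z0 * y * k := by
        calc k * y = (k * y * k⁻¹) * k := by group
          _ = z0 * y * k := by rw [e]
      have t1 := tbl_mul hkt hyt
      rw [e'] at t1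
      exact tbl_unique t1 (tbl_mul (tbl_mul z0_tbl hyt) hkt)

/-! ### two subgroups of order eight of the complement -/

/-- the first subgroup of order eight. -/
def U1 : Subgroup ↥M24 := tblSubgroup caU1 ca_U_nodup.2.2.2.2.1 (hmul_of_tables caU1 ca_U1_closed)

/-- the second subgroup of order eight. -/
def U2 : Subgroup ↥M24 := tblSubgroup caU2 ca_U_nodup.2.2.2.2.2 (hmul_of_tables caU2 ca_U2_closed)

theorem caU_sub {t : List ℕ} (ht : t ∈ caU1 ++ caU2) : t ∈ caK.tabs := by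
  have := List.all_eq_true.mp ca_U_sub t ht
  simpa using this

theorem U1_le : U1 ≤ K0 := by
  rintro x ⟨t, ht, hxt⟩
  exact ⟨t, caU_sub (List.mem_append_left _ ht), hxt⟩

theorem U2_le : U2 ≤ K0 := by
  rintro x ⟨t, ht, hxt⟩
  exact ⟨t, caU_sub (List.mem_append_right _ ht), hxt⟩

theorem card_U1 : Nat.card U1 = 2 ^ 3 := by
  unfold U1
  rw [card_tblSubgroup _ _ _ ca_U_nodup.1, ca_U_nodup.2.2.1]
  · norm_num
  · intro t ht
    exact caK.real_tabs caK_bfs caK_gens_real t (caU_sub (List.mem_append_left _ ht))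

theorem card_U2 : Nat.card U2 = 2 ^ 3 := by
  unfold U2
  rw [card_tblSubgroup _ _ _ ca_U_nodup.2.1, ca_U_nodup.2.2.2.1]
  · norm_num
  · intro t ht
    exact caK.real_tabs caK_bfs caK_gens_real t (caU_sub (List.mem_append_right _ ht))

theorem U1_inter_U2 : ∀ x ∈ U1, x ∈ U2 → x = 1 := by
  rintro x ⟨t, ht, hxt⟩ ⟨t', ht', hxt'⟩
  have e := tbl_unique hxt hxt'
  subst e
  have h := List.all_eq_true.mp ca_U_inter t ht
  rw [Bool.or_eq_true, beq_iff_eq] at h
  rcases h with h | h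
  · subst h
    exact eq_one_of_tbl hxt
  · exfalso
    rw [Bool.not_eq_true', List.contains_eq_mem, decide_eq_false_iff_not] at h
    exact h ht'

/-! ### the elements that fix the points of the octad -/

/-- the elements that fix the points of the octad. -/
def E0 : Subgroup ↥M24 := K6.subgroupOf M24

theorem mem_E0 (x : ↥M24) : x ∈ E0 ↔ (x : Equiv.Perm GolayPt) ∈ K6 := Subgroup.mem_subgroupOf

theorem K6_le_M24 : K6 ≤ M24 := inf_le_left

theorem card_E0 : Nat.card E0 = 2 ^ 4 := by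
  unfold E0
  rw [Nat.card_congr (Subgroup.subgroupOfEquivOfLe K6_le_M24).toEquiv, card_K6]
  norm_num

theorem E0_le : E0 ≤ Q0 := by
  intro x hx
  obtain ⟨e, he, hxt⟩ := K6_table ((mem_E0 x).mp hx)
  have := List.all_eq_true.mp ca_E_sub e he
  exact ⟨_, by simpa using this, hxt⟩

theorem E0_sq : ∀ x ∈ E0, x * x = 1 := by
  intro x hx
  exact Subtype.ext (K6_sq ((mem_E0 x).mp hx))

theorem E0_comm : ∀ x ∈ E0, ∀ y ∈ E0, x * y = y * x := by
  intro x hx y hy
  have h1 := E0_sq x hx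
  have h2 := E0_sq y hy
  have h3 := E0_sq (x * y) (E0.mul_mem hx hy)
  calc x * y = (y * y) * (x * y) * (x * x) := by rw [h1, h2, one_mul, mul_one]
    _ = y * ((y * x) * (y * x)) * x := by simp only [mul_assoc]
    _ = y * x := by
      have : (y * x) * (y * x) = 1 := by
        have h4 := E0_sq (y * x) (E0.mul_mem hy hx)
        exact h4
      rw [this, mul_one]

/-- an element whose table fixes the numbers of the octad fixes its points. -/
theorem mem_E0_of_tbl {x : ↥M24} {t : List ℕ} (hx : IsTbl (x : Equiv.Perm GolayPt) t)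
    (h : ∀ i < 24, (5279 : ℕ).testBit i = true → t.getD i 0 = i) : x ∈ E0 := by
  rw [mem_E0, ← KO_oct0, mem_KO_iff]
  refine ⟨x.2, ?_⟩
  intro p hp
  rw [mem_suppM] at hp
  apply ptIdx_injective
  rw [← hx.2 p]
  exact h _ (ptIdx_lt p) hp

theorem ca_fix' : ∀ i < 24, (5279 : ℕ).testBit i = true → caZ.getD i 0 = i ∧ caB.getD i 0 = i := by
  intro i hi hb
  have := List.all_eq_true.mp ca_fix i (List.mem_range.mpr hi)
  rw [hb] at this
  simpa using this

theorem z0_mem_E0 : z0 ∈ E0 := mem_E0_of_tbl z0_tbl (fun i hi hb => (ca_fix' i hi hb).1)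

theorem b0_mem_E0 : b0 ∈ E0 := mem_E0_of_tbl b0_tbl (fun i hi hb => (ca_fix' i hi hb).2)

theorem b0_ne_one : b0 ≠ 1 := by
  intro h
  have h1 := b0_tbl
  rw [h] at h1
  exact ca_ne.2.1 (tbl_unique h1 tbl_one)

theorem b0_ne_z0 : b0 ≠ z0 := by
  intro h
  have h1 := b0_tbl
  rw [h] at h1
  exact ca_ne.2.2 (tbl_unique h1 z0_tbl)

/-- a nontrivial element that fixes the points of the octad fixes no other point. -/
theorem fix_mem_oct {b : ↥M24} (hb : b ∈ E0) (hb1 : b ≠ 1) {p : GolayPt}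
    (hp : (b : Equiv.Perm GolayPt) p = p) : p ∈ suppM 5279 := by
  by_contra hcon
  apply hb1
  exact Subtype.ext (K6_regular ((mem_E0 b).mp hb) hcon hp)

/-- an element that commutes with a nontrivial element fixing the points of the octad preserves
the octad. -/
theorem maps_oct {b c : ↥M24} (hb : b ∈ E0) (hb1 : b ≠ 1) (hc : c * b = b * c) {p : GolayPt}
    (hp : p ∈ suppM 5279) : (c : Equiv.Perm GolayPt) p ∈ suppM 5279 := by
  apply fix_mem_oct hb hb1
  have hbp : (b : Equiv.Perm GolayPt) p = p := by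
    have := (mem_E0 b).mp hb
    rw [← KO_oct0, mem_KO_iff] at this
    exact this.2 p hp
  have e : ((b * c : ↥M24) : Equiv.Perm GolayPt) p = ((c * b : ↥M24) : Equiv.Perm GolayPt) p := by
    rw [hc]
  change (b : Equiv.Perm GolayPt) ((c : Equiv.Perm GolayPt) p) =
    (c : Equiv.Perm GolayPt) ((b : Equiv.Perm GolayPt) p) at e
  rw [e, hbp]

theorem E0_conj {b : ↥M24} (hb : b ∈ E0) (hb1 : b ≠ 1) :
    ∀ c : ↥M24, c * b = b * c → ∀ e ∈ E0, c * e * c⁻¹ ∈ E0 := by
  intro c hc e he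
  have hc' : c⁻¹ * b = b * c⁻¹ := by
    have := congrArg (fun t => c⁻¹ * t * c⁻¹) hc
    simp only [mul_assoc, inv_mul_cancel_left, mul_inv_cancel, mul_one] at this
    exact this.symm
  rw [mem_E0, ← KO_oct0, mem_KO_iff]
  refine ⟨(c * e * c⁻¹).2, ?_⟩
  intro p hp
  have h1 := maps_oct hb hb1 hc' hp
  have he' := (mem_E0 e).mp he
  rw [← KO_oct0, mem_KO_iff] at he'
  have h2 := he'.2 _ h1
  change (c : Equiv.Perm GolayPt) ((e : Equiv.Perm GolayPt)
    (((c⁻¹ : ↥M24) : Equiv.Perm GolayPt) p)) = p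
  rw [h2]
  change ((c * c⁻¹ : ↥M24) : Equiv.Perm GolayPt) p = p
  rw [mul_inv_cancel]
  rfl

/-! ### the complement and the matrices -/

/-- the homomorphism from the complement to the matrices. -/
noncomputable def homK : ↥K0 →* Matrix (Fin 3) (Fin 3) (ZMod 2) :=
  caK_good.toHom caPhi caGam ca_phi_one ca_phi_next

theorem homK_injective : Function.Injective homK.toHomUnits := by
  rw [injective_iff_map_eq_one]
  intro g hg
  have hg' : homK g = 1 := by
    have := congrArg Units.val hg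
    simpa using this
  have hg2 : caPhi (caK_good.idx g) = 1 := hg'
  have hz := ca_phi_inj _ (caK_good.idx_lt g) hg2
  have hs := caK_good.idx_spec g
  rw [hz, caK_good.z_facts.2] at hs
  exact Subtype.ext (Subtype.ext (hs.eq_of_eq isTbl_one))

theorem card_GL3 : Nat.card (GL (Fin 3) (ZMod 2)) = 168 := by
  rw [Matrix.card_GL_field, ZMod.card]
  simp [Fin.prod_univ_three]

theorem iso_K0 : Nonempty (↥K0 ≃* Matrix.SpecialLinearGroup (Fin 3) (ZMod 2)) := by
  have h1 : Function.Bijective homK.toHomUnits := by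
    apply homK_injective.bijective_of_nat_card_le
    rw [card_GL3, card_K0]
  have h2 : Function.Bijective
      (Matrix.SpecialLinearGroup.toGL : Matrix.SpecialLinearGroup (Fin 3) (ZMod 2) →*
        GL (Fin 3) (ZMod 2)) := by
    apply Matrix.SpecialLinearGroup.toGL_injective.bijective_of_nat_card_le
    rw [card_GL3, Cfsg.Agent.S0445.card_SL3]
  exact ⟨(MulEquiv.ofBijective _ h1).trans (MulEquiv.ofBijective _ h2).symm⟩

/-! ### the order of the centralizer -/

/-- the stabilizer of the octad. -/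
def GOs : Subgroup ↥M24 := (GO (suppM 5279)).subgroupOf M24

theorem GO_le_M24 : GO (suppM 5279) ≤ M24 := inf_le_left

theorem card_GOs : Nat.card GOs = 322560 := by
  unfold GOs
  rw [Nat.card_congr (Subgroup.subgroupOfEquivOfLe GO_le_M24).toEquiv]
  exact card_GO oct5279_mem

theorem mem_GOs (x : ↥M24) :
    x ∈ GOs ↔ (x : Equiv.Perm GolayPt) • suppM 5279 = suppM 5279 := by
  unfold GOs GO
  rw [Subgroup.mem_subgroupOf, Subgroup.mem_inf, MulAction.mem_stabilizer_iff]
  exact ⟨fun h => h.2, fun h => ⟨x.2, h⟩⟩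

theorem fixMask_caZ : fixMask caZ = 5279 := by decide +kernel

theorem fix_z0 : (Finset.univ.filter fun p => (z0 : Equiv.Perm GolayPt) p = p) = suppM 5279 := by
  rw [fix_eq_suppM z0_tbl, fixMask_caZ]

theorem C_le_GOs : Subgroup.centralizer ({z0} : Set ↥M24) ≤ GOs := by
  intro c hc
  rw [Subgroup.mem_centralizer_singleton_iff] at hc
  rw [mem_GOs]
  have h1 := fix_conj (c : Equiv.Perm GolayPt) (z0 : Equiv.Perm GolayPt)
  have e : (c : Equiv.Perm GolayPt) * z0 * (c : Equiv.Perm GolayPt)⁻¹ = z0 := by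
    have : c * z0 * c⁻¹ = z0 := by rw [hc, mul_inv_cancel_right]
    exact congrArg Subtype.val this
  rw [e, fix_z0] at h1
  exact h1.symm

/-- the other elements that fix the points of the octad are conjugate to the involution. -/
theorem exists_conj_E0 (x : ↥M24) (hx : x ∈ E0) (hx1 : x ≠ 1) :
    ∃ g : ↥M24, g ∈ GOs ∧ g * z0 * g⁻¹ = x := by
  obtain ⟨e, he, hxt⟩ := K6_table ((mem_E0 x).mp hx)
  have h := List.all_eq_true.mp ca_conj e he
  rw [Bool.or_eq_true, beq_iff_eq] at h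
  rcases h with h | h
  · exfalso
    rw [h] at hxt
    exact hx1 (eq_one_of_tbl hxt)
  · rw [List.any_eq_true] at h
    obtain ⟨c, _, hc⟩ := h
    simp only [Bool.and_eq_true, decide_eq_true_eq, beq_iff_eq] at hc
    obtain ⟨⟨hcn, hpres⟩, hmul⟩ := hc
    obtain ⟨σ, hσ, hσt⟩ := caS_real hcn
    refine ⟨⟨σ, hσ⟩, ?_, ?_⟩
    · rw [mem_GOs]
      exact smul_suppM_of_preserves hσt hpres
    · have e1 : (⟨σ, hσ⟩ : ↥M24) * z0 = x * ⟨σ, hσ⟩ := by
        apply eq_of_tbl (tbl_mul (x := ⟨σ, hσ⟩) hσt z0_tbl)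
        rw [hmul]
        exact tbl_mul (y := ⟨σ, hσ⟩) hxt hσt
      rw [e1, mul_inv_cancel_right]

theorem card_E0_ne : Nat.card {y : ↥E0 // y ≠ 1} = 15 := by
  have h1 : Nat.card (Option {y : ↥E0 // y ≠ 1}) = Nat.card ↥E0 :=
    Nat.card_congr (Equiv.optionSubtypeNe (1 : ↥E0))
  rw [Finite.card_option, card_E0] at h1
  omega

theorem card_C_le : 15 * Nat.card (Subgroup.centralizer ({z0} : Set ↥M24)) ≤ 322560 := by
  have hex : ∀ x : {y : ↥E0 // y ≠ 1}, ∃ g : ↥M24, g ∈ GOs ∧ g * z0 * g⁻¹ = ((x.1 : ↥E0) : ↥M24) := by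
    intro x
    apply exists_conj_E0 _ x.1.2
    intro e
    apply x.2
    exact Subtype.ext e
  choose g hgG hgz using hex
  have hinj : Function.Injective (fun p : {y : ↥E0 // y ≠ 1} ×
      ↥(Subgroup.centralizer ({z0} : Set ↥M24)) =>
      (⟨g p.1 * p.2.1, GOs.mul_mem (hgG p.1) (C_le_GOs p.2.2)⟩ : ↥GOs)) := by
    rintro ⟨x, c⟩ ⟨x', c'⟩ e
    have e1 : g x * c.1 = g x' * c'.1 := congrArg Subtype.val e
    have hc : c.1 * z0 = z0 * c.1 := Subgroup.mem_centralizer_singleton_iff.mp c.2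
    have hc' : c'.1 * z0 = z0 * c'.1 := Subgroup.mem_centralizer_singleton_iff.mp c'.2
    have k1 : (g x * c.1) * z0 * (g x * c.1)⁻¹ = ((x.1 : ↥E0) : ↥M24) := by
      rw [← hgz x]
      calc (g x * c.1) * z0 * (g x * c.1)⁻¹ = g x * (c.1 * z0) * c.1⁻¹ * (g x)⁻¹ := by group
        _ = g x * (z0 * c.1) * c.1⁻¹ * (g x)⁻¹ := by rw [hc]
        _ = g x * z0 * (g x)⁻¹ := by group
    have k2 : (g x' * c'.1) * z0 * (g x' * c'.1)⁻¹ = ((x'.1 : ↥E0) : ↥M24) := by
      rw [← hgz x']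
      calc (g x' * c'.1) * z0 * (g x' * c'.1)⁻¹
          = g x' * (c'.1 * z0) * c'.1⁻¹ * (g x')⁻¹ := by group
        _ = g x' * (z0 * c'.1) * c'.1⁻¹ * (g x')⁻¹ := by rw [hc']
        _ = g x' * z0 * (g x')⁻¹ := by group
    rw [e1, k2] at k1
    have ex : x = x' := Subtype.ext (Subtype.ext k1.symm)
    subst ex
    have ec : c = c' := Subtype.ext (mul_left_cancel e1)
    rw [ec]
  have := Nat.card_le_card_of_injective _ hinj
  rw [Nat.card_prod, card_E0_ne, card_GOs] at this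
  exact this

theorem card_C : Nat.card (Subgroup.centralizer ({z0} : Set ↥M24)) = 21504 := by
  have h1 := card_C_le
  have hP : P2 ≤ Subgroup.centralizer ({z0} : Set ↥M24) :=
    fun x hx => Subgroup.mem_centralizer_singleton_iff.mpr (P2_comm x hx)
  have hK : K0 ≤ Subgroup.centralizer ({z0} : Set ↥M24) :=
    fun x hx => Subgroup.mem_centralizer_singleton_iff.mpr (K0_comm x hx)
  have d1 := Subgroup.card_dvd_of_le hP
  have d2 := Subgroup.card_dvd_of_le hK
  rw [card_P2] at d1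
  rw [card_K0] at d2
  have hpos : 0 < Nat.card (Subgroup.centralizer ({z0} : Set ↥M24)) := Nat.card_pos
  norm_num at d1
  omega

/-! ### the conclusions -/

theorem data0 : Data z0 Q0 K0 U1 U2 E0 b0 where
  hz := order_z0
  hQC := Q0_comm
  hKC := K0_comm
  hKQ := K0_norm
  cardQ := card_Q0
  cardK := card_K0
  hQK := Q0_inter_K0
  cardC := card_C
  zQ := z0_mem
  comm := Q0_commutator
  sq := Q0_sq
  cen := Q0_center
  isoK := iso_K0
  hU1K := U1_le
  hU2K := U2_le
  cardU1 := card_U1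
  cardU2 := card_U2
  hUU := U1_inter_U2
  hEQ := E0_le
  zE := z0_mem_E0
  Ecomm := E0_comm
  Esq := E0_sq
  cardE := card_E0
  bE := b0_mem_E0
  b1 := b0_ne_one
  bz := b0_ne_z0
  hbE := E0_conj b0_mem_E0 b0_ne_one
  faith := K0_faith

/-- an involution whose fixed points are the points of an octad is conjugate to the involution of
the data. -/
theorem exists_conj_z0 (z : ↥M24) (hz : orderOf z = 2)
    (hfix : (Finset.univ.filter fun p : GolayPt => (z : Equiv.Perm GolayPt) p = p) ∈ octads) :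
    ∃ g : ↥M24, z = g * z0 * g⁻¹ := by
  obtain ⟨k, hk, hko⟩ := exists_smul_oct0 hfix
  have hz1 : z ≠ 1 := by
    intro h
    rw [h, orderOf_one] at hz
    omega
  have hfc := fix_conj (k⁻¹ : Equiv.Perm GolayPt) (z : Equiv.Perm GolayPt)
  rw [← hko, inv_smul_smul, inv_inv] at hfc
  have hmem : (⟨k, hk⟩ : ↥M24)⁻¹ * z * ⟨k, hk⟩ ∈ E0 := by
    rw [mem_E0, ← KO_oct0, mem_KO_iff]
    refine ⟨((⟨k, hk⟩ : ↥M24)⁻¹ * z * ⟨k, hk⟩).2, ?_⟩
    intro p hp
    rw [← hfc, Finset.mem_filter] at hp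
    exact hp.2
  have hne : (⟨k, hk⟩ : ↥M24)⁻¹ * z * ⟨k, hk⟩ ≠ 1 := by
    intro h
    apply hz1
    have : z = ⟨k, hk⟩ * ((⟨k, hk⟩ : ↥M24)⁻¹ * z * ⟨k, hk⟩) * (⟨k, hk⟩ : ↥M24)⁻¹ := by group
    rw [this, h]
    group
  obtain ⟨g, _, hg⟩ := exists_conj_E0 _ hmem hne
  refine ⟨⟨k, hk⟩ * g, ?_⟩
  have : z = ⟨k, hk⟩ * ((⟨k, hk⟩ : ↥M24)⁻¹ * z * ⟨k, hk⟩) * (⟨k, hk⟩ : ↥M24)⁻¹ := by group
  rw [this, ← hg]
  group

theorem main (z : ↥M24) (hz : orderOf z = 2)
    (hfix : (Finset.univ.filter fun p : GolayPt => (z : Equiv.Perm GolayPt) p = p) ∈ octads)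
    (Q : Subgroup ↥M24)
    (hQ : Q = (pCore 2 ↥(Subgroup.centralizer ({z} : Set ↥M24))).map
      (Subgroup.centralizer ({z} : Set ↥M24)).subtype) :
    IsExtraspecial 2 ↥Q ∧ Nat.card ↥Q = 2 ^ 7 ∧
      (∃ E : Subgroup ↥M24, E ≤ Q ∧ IsElementaryAbelian 2 E ∧ Nat.card ↥E = 2 ^ 4) ∧
      IsLargeExtraspecial Q ∧
      ∃ K : Subgroup ↥M24, K ≤ Subgroup.centralizer ({z} : Set ↥M24) ∧ Q ⊓ K = ⊥ ∧
        Q ⊔ K = Subgroup.centralizer ({z} : Set ↥M24) ∧
        Nonempty (↥K ≃* Matrix.SpecialLinearGroup (Fin 3) (ZMod 2)) := by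
  obtain ⟨g, rfl⟩ := exists_conj_z0 z hz hfix
  exact (data0.map (MulAut.conj g)).main Q hQ

end Cfsg.Agent.Helper9.C2A
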