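import Mathlib

set_option autoImplicit false

/-! An isomorphism between two split extensions from homomorphisms on the normal subgroup and on
the complement that are compatible with the conjugation. -/

namespace Cfsg.Agent.Helper9.C2A

/-- a subgroup that is the product of a subgroup and a complement normalizing it is isomorphic
to a subgroup of the same order that contains the images of two compatible homomorphisms whose
images meet in the neutral element only. -/
theorem iso_of_split {G H : Type*} [Group G] [Group H] [Finite G] [Finite H]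
    (Q K C : Subgroup G) (D : Subgroup H)
    (hn : ∀ k ∈ K, ∀ q ∈ Q, k * q * k⁻¹ ∈ Q)
    (hQK : ∀ x ∈ Q, x ∈ K → x = 1)
    (hQC : Q ≤ C) (hKC : K ≤ C) (hC : Nat.card C = Nat.card Q * Nat.card K)
    (f₁ : Q →* H) (f₂ : K →* H)
    (hcompat : ∀ (k : K) (q : Q) (h : (k : G) * q * (k : G)⁻¹ ∈ Q),
      f₁ ⟨(k : G) * q * (k : G)⁻¹, h⟩ * f₂ k = f₂ k * f₁ q)
    (hf₁ : ∀ q, f₁ q ∈ D) (hf₂ : ∀ k, f₂ k ∈ D)
    (hinj : ∀ (q : Q) (k : K), f₁ q = f₂ k → q = 1 ∧ k = 1)
    (hD : Nat.card D = Nat.card Q * Nat.card K) : Nonempty (C ≃* D) := by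
  have hn' : K ≤ Subgroup.normalizer (Q : Set G) := by
    intro k hk
    rw [Subgroup.mem_normalizer_iff]
    intro h
    constructor
    · intro hh
      exact hn k hk h hh
    · intro hh
      have := hn k⁻¹ (K.inv_mem hk) _ hh
      rw [inv_inv] at this
      have e : k⁻¹ * (k * h * k⁻¹) * k = h := by group
      rw [e] at this
      exact this
  let φ : K →* MulAut Q := (Q.normalizerMonoidHom).comp (Subgroup.inclusion hn')
  have hφ : ∀ (k : K) (q : Q), ((φ k q : Q) : G) = k * q * (k : G)⁻¹ := fun k q => rfl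
  let ι : Q ⋊[φ] K →* G := SemidirectProduct.monoidHomSubgroup hn'
  have hι : ∀ x : Q ⋊[φ] K, ι x = (x.left : G) * (x.right : G) := fun x => rfl
  have hιinj : Function.Injective ι := by
    rw [injective_iff_map_eq_one]
    intro x hx
    rw [hι] at hx
    have h1 : (x.left : G) = (x.right : G)⁻¹ := eq_inv_of_mul_eq_one_left hx
    have h2 : (x.left : G) = 1 := hQK _ x.left.2 (h1 ▸ K.inv_mem x.right.2)
    have h3 : (x.right : G) = 1 := by
      rw [h2, one_mul] at hx
      exact hx
    ext
    · exact h2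
    · exact h3
  let Ψ : Q ⋊[φ] K →* H := SemidirectProduct.lift f₁ f₂ (by
    intro k
    ext q
    simp only [MonoidHom.comp_apply, MulEquiv.coe_toMonoidHom, MulAut.conj_apply]
    have h := hcompat k q (φ k q).2
    rw [eq_mul_inv_iff_mul_eq]
    exact h)
  have hΨ : ∀ x : Q ⋊[φ] K, Ψ x = f₁ x.left * f₂ x.right := fun x => rfl
  have hΨinj : Function.Injective Ψ := by
    rw [injective_iff_map_eq_one]
    intro x hx
    rw [hΨ] at hx
    have h1 : f₁ x.left = f₂ (x.right)⁻¹ := by
      rw [map_inv]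
      exact eq_inv_of_mul_eq_one_left hx
    obtain ⟨h2, h3⟩ := hinj _ _ h1
    ext
    · rw [h2]; rfl
    · rw [inv_eq_one] at h3
      rw [h3]; rfl
  have hcard : Nat.card (Q ⋊[φ] K) = Nat.card Q * Nat.card K := SemidirectProduct.card
  have hr1 : ι.range = C := by
    apply Subgroup.eq_of_le_of_card_ge
    · rintro _ ⟨x, rfl⟩
      rw [hι]
      exact C.mul_mem (hQC x.left.2) (hKC x.right.2)
    · rw [hC, ← hcard]
      exact le_of_eq (Nat.card_congr (Equiv.ofInjective ι hιinj))
  have hr2 : Ψ.range = D := by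
    apply Subgroup.eq_of_le_of_card_ge
    · rintro _ ⟨x, rfl⟩
      rw [hΨ]
      exact D.mul_mem (hf₁ _) (hf₂ _)
    · rw [hD, ← hcard]
      exact le_of_eq (Nat.card_congr (Equiv.ofInjective Ψ hΨinj))
  exact ⟨((MonoidHom.ofInjective hιinj).trans (MulEquiv.subgroupCongr hr1)).symm.trans
    ((MonoidHom.ofInjective hΨinj).trans (MulEquiv.subgroupCongr hr2))⟩

end Cfsg.Agent.Helper9.C2A
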