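import Mathlib
import Cfsg.Prelude
import Cfsg.Agent.Helper9.C2A.Main
import Cfsg.Agent.Helper9.C2A.Semi
import Cfsg.Agent.Helper9.C2A.Iso5Data
import Cfsg.Agent.S0445

set_option autoImplicit false

/-! The centralizer in the group of the code of an involution that fixes the points of an octad is
isomorphic to the centralizer of a transvection in the special linear group of degree five over
the field of two elements. -/

namespace Cfsg.Agent.Helper9.C2A

open Cfsg Cfsg.Agent.Helper9.Golay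

/-! ### homomorphisms to the special linear group -/

theorem det_eq_one_of_hom {G : Type*} [Group G] (f : G →* Matrix (Fin 5) (Fin 5) (ZMod 2))
    (g : G) : (f g).det = 1 := by
  have h : f g * f g⁻¹ = 1 := by rw [← map_mul, mul_inv_cancel, map_one]
  have h2 := congrArg Matrix.det h
  rw [Matrix.det_mul, Matrix.det_one] at h2
  revert h2
  generalize (f g).det = x
  generalize (f g⁻¹).det = y
  revert x y
  decide

/-- a homomorphism to the matrices as a homomorphism to the special linear group. -/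
def toSL5 {G : Type*} [Group G] (f : G →* Matrix (Fin 5) (Fin 5) (ZMod 2)) :
    G →* Matrix.SpecialLinearGroup (Fin 5) (ZMod 2) where
  toFun g := ⟨f g, det_eq_one_of_hom f g⟩
  map_one' := Subtype.ext (map_one f)
  map_mul' a b := Subtype.ext (map_mul f a b)

theorem toSL5_val {G : Type*} [Group G] (f : G →* Matrix (Fin 5) (Fin 5) (ZMod 2)) (g : G) :
    ((toSL5 f g : Matrix.SpecialLinearGroup (Fin 5) (ZMod 2)) :
      Matrix (Fin 5) (Fin 5) (ZMod 2)) = f g := rfl

/-- the matrices of the normal subgroup. -/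
noncomputable def homQ5 : ↥Q0 →* Matrix (Fin 5) (Fin 5) (ZMod 2) :=
  caQ_good.toHom phiQ gamQ phiQ_one phiQ_next

/-- the matrices of the complement. -/
noncomputable def homK5 : ↥K0 →* Matrix (Fin 5) (Fin 5) (ZMod 2) :=
  caK_good.toHom phiK gamK phiK_one phiK_next

theorem homQ5_apply (q : ↥Q0) : homQ5 q = phiQ (caQ_good.idx q) := rfl

theorem homK5_apply (k : ↥K0) : homK5 k = phiK (caK_good.idx k) := rfl

theorem homQ5_eq_one {q : ↥Q0} (h : homQ5 q = 1) : q = 1 := by
  rw [homQ5_apply] at h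
  have hz := phiQ_inj _ (caQ_good.idx_lt q) h
  have hs := caQ_good.idx_spec q
  rw [hz, caQ_good.z_facts.2] at hs
  exact Subtype.ext (eq_one_of_tbl hs)

theorem homK5_eq_one_of_blk {k : ↥K0} (h : blk3 (homK5 k) = 1) : k = 1 := by
  rw [homK5_apply] at h
  have hz := phiK_blk _ (caK_good.idx_lt k) h
  have hs := caK_good.idx_spec k
  rw [hz, caK_good.z_facts.2] at hs
  exact Subtype.ext (eq_one_of_tbl hs)

theorem homQ5_blk (q : ↥Q0) : blk3 (homQ5 q) = 1 := phiQ_blk _ (caQ_good.idx_lt q)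

theorem hom5_inj (q : ↥Q0) (k : ↥K0) (h : homQ5 q = homK5 k) : q = 1 ∧ k = 1 := by
  have hk : k = 1 := by
    apply homK5_eq_one_of_blk
    rw [← h]
    exact homQ5_blk q
  refine ⟨?_, hk⟩
  apply homQ5_eq_one
  rw [h, hk, map_one]

/-! ### compatibility with the conjugation -/

theorem K0_le_normalizer : K0 ≤ Subgroup.normalizer (Q0 : Set ↥M24) := by
  intro k hk
  rw [Subgroup.mem_normalizer_iff]
  intro h
  constructor
  · intro hh
    exact K0_norm k hk h hh
  · intro hh
    have := K0_norm k⁻¹ (K0.inv_mem hk) _ hh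
    rw [inv_inv] at this
    have e : k⁻¹ * (k * h * k⁻¹) * k = h := by group
    rw [e] at this
    exact this

/-- the conjugation of the complement on the normal subgroup. -/
def conjK : ↥K0 →* MulAut ↥Q0 :=
  (Q0.normalizerMonoidHom).comp (Subgroup.inclusion K0_le_normalizer)

theorem conjK_val (k : ↥K0) (q : ↥Q0) :
    ((conjK k q : ↥Q0) : ↥M24) = (k : ↥M24) * q * (k : ↥M24)⁻¹ := rfl

/-- the elements of the complement for which the matrices are compatible with the conjugation. -/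
def compatSub : Subgroup ↥K0 where
  carrier := {k | ∀ q : ↥Q0, homQ5 (conjK k q) * homK5 k = homK5 k * homQ5 q}
  one_mem' := by
    intro q
    rw [map_one, map_one, MulAut.one_apply, mul_one, one_mul]
  mul_mem' := by
    intro a b ha hb q
    rw [map_mul conjK, MulAut.mul_apply, map_mul homK5, ← mul_assoc, ha, mul_assoc, hb, mul_assoc]
  inv_mem' := by
    intro a ha q
    have h := ha (conjK a⁻¹ q)
    rw [← MulAut.mul_apply, ← map_mul conjK, mul_inv_cancel, map_one, MulAut.one_apply] at h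
    have h1 : homK5 a⁻¹ * homK5 a = 1 := by rw [← map_mul, inv_mul_cancel, map_one]
    have h2 : homK5 a * homK5 a⁻¹ = 1 := by rw [← map_mul, mul_inv_cancel, map_one]
    calc homQ5 (conjK a⁻¹ q) * homK5 a⁻¹
        = homK5 a⁻¹ * (homK5 a * homQ5 (conjK a⁻¹ q)) * homK5 a⁻¹ := by
          rw [← mul_assoc, h1, one_mul]
      _ = homK5 a⁻¹ * (homQ5 q * homK5 a) * homK5 a⁻¹ := by rw [h]
      _ = homK5 a⁻¹ * homQ5 q := by rw [mul_assoc, mul_assoc, h2, mul_one]

theorem gen_compat {ks qs : List ℕ} (hks : ks ∈ caK.gens) (hqs : qs ∈ caQ.gens)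
    (k : ↥K0) (q : ↥Q0) (hk : IsTbl ((k : ↥M24) : Equiv.Perm GolayPt) ks)
    (hq : IsTbl ((q : ↥M24) : Equiv.Perm GolayPt) qs) :
    homQ5 (conjK k q) * homK5 k = homK5 k * homQ5 q := by
  have h1 := List.all_eq_true.mp (List.all_eq_true.mp ca_trip_cover ks hks) qs hqs
  rw [List.any_eq_true] at h1
  obtain ⟨e, he, h2⟩ := h1
  rw [Bool.and_eq_true, beq_iff_eq, beq_iff_eq] at h2
  obtain ⟨hlk, hlq, hly, hmul, hmat⟩ := ca_trip_ok e he
  have ik : caK_good.idx k = e.1 := caK_good.idx_eq k hlk (h2.1 ▸ hk)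
  have iq : caQ_good.idx q = e.2.1 := caQ_good.idx_eq q hlq (h2.2 ▸ hq)
  obtain ⟨y, hy, hyt⟩ := exists_Q0_of_tab ((caQ.mem_tabs _).mpr ⟨_, hly, rfl⟩)
  have e1 : y * (k : ↥M24) = (k : ↥M24) * q := by
    apply eq_of_tbl (tbl_mul hyt (h2.1 ▸ hk))
    rw [hmul]
    exact tbl_mul (h2.1 ▸ hk) (h2.2 ▸ hq)
  have e2 : ((conjK k q : ↥Q0) : ↥M24) = y := by
    rw [conjK_val, ← e1, mul_inv_cancel_right]
  have iy : caQ_good.idx (conjK k q) = e.2.2 := by
    apply caQ_good.idx_eq _ hly
    rw [e2]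
    exact hyt
  rw [homQ5_apply, homQ5_apply, homK5_apply, ik, iq, iy]
  exact hmat

theorem compat_gen_all {ks : List ℕ} (hks : ks ∈ caK.gens) (k : ↥K0)
    (hk : IsTbl ((k : ↥M24) : Equiv.Perm GolayPt) ks) (q : ↥Q0) :
    homQ5 (conjK k q) * homK5 k = homK5 k * homQ5 q := by
  -- the elements of the normal subgroup for which the equation holds form a subgroup
  let B : Subgroup ↥Q0 :=
    { carrier := {q | homQ5 (conjK k q) * homK5 k = homK5 k * homQ5 q}
      one_mem' := by
        change homQ5 (conjK k 1) * homK5 k = homK5 k * homQ5 1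
        rw [map_one, map_one, mul_one, one_mul]
      mul_mem' := by
        intro a b ha hb
        change homQ5 (conjK k (a * b)) * homK5 k = homK5 k * homQ5 (a * b)
        change homQ5 (conjK k a) * homK5 k = homK5 k * homQ5 a at ha
        change homQ5 (conjK k b) * homK5 k = homK5 k * homQ5 b at hb
        rw [map_mul (conjK k), map_mul homQ5, map_mul homQ5, mul_assoc, hb, ← mul_assoc, ha,
          mul_assoc]
      inv_mem' := by
        intro a ha
        change homQ5 (conjK k a⁻¹) * homK5 k = homK5 k * homQ5 a⁻¹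
        change homQ5 (conjK k a) * homK5 k = homK5 k * homQ5 a at ha
        have h1 : homQ5 (conjK k a⁻¹) * homQ5 (conjK k a) = 1 := by
          rw [← map_mul homQ5, ← map_mul (conjK k), inv_mul_cancel, map_one, map_one]
        have h2 : homQ5 a * homQ5 a⁻¹ = 1 := by rw [← map_mul, mul_inv_cancel, map_one]
        calc homQ5 (conjK k a⁻¹) * homK5 k
            = homQ5 (conjK k a⁻¹) * (homK5 k * homQ5 a) * homQ5 a⁻¹ := by
              rw [mul_assoc, mul_assoc, h2, mul_one]
          _ = homQ5 (conjK k a⁻¹) * (homQ5 (conjK k a) * homK5 k) * homQ5 a⁻¹ := by rw [ha]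
          _ = homK5 k * homQ5 a⁻¹ := by rw [← mul_assoc, h1, one_mul] }
  have hB : Q0 ≤ B.map Q0.subtype := by
    apply Q0_le
    intro qs hqs x hx
    have hxQ : x ∈ Q0 := ⟨qs, gens_mem_tabs hqs, hx⟩
    exact ⟨⟨x, hxQ⟩, gen_compat hks hqs k ⟨x, hxQ⟩ hk hx, rfl⟩
  obtain ⟨q', hq', e⟩ := hB q.2
  have : q' = q := Subtype.ext e
  rw [← this]
  exact hq'

theorem ca_K_gens_mem : caK.gens.all (fun s => caK.tabs.contains s) = true := by decide +kernel

theorem caK_gens_mem_tabs {s : List ℕ} (hs : s ∈ caK.gens) : s ∈ caK.tabs := by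
  have := List.all_eq_true.mp ca_K_gens_mem s hs
  simpa using this

theorem compat_all (k : ↥K0) (q : ↥Q0) :
    homQ5 (conjK k q) * homK5 k = homK5 k * homQ5 q := by
  have hA : K0 ≤ compatSub.map K0.subtype := by
    apply K0_le
    intro ks hks x hx
    have hxK : x ∈ K0 := ⟨ks, caK_gens_mem_tabs hks, hx⟩
    exact ⟨⟨x, hxK⟩, fun q => compat_gen_all hks ⟨x, hxK⟩ hx q, rfl⟩
  obtain ⟨k', hk', e⟩ := hA k.2
  have : k' = k := Subtype.ext e
  rw [← this]
  exact hk' q

/-! ### the isomorphism -/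

theorem iso5 (s : Matrix.SpecialLinearGroup (Fin 5) (ZMod 2))
    (hs : (s : Matrix (Fin 5) (Fin 5) (ZMod 2)) = Matrix.transvection 0 1 1) :
    Nonempty (↥(Subgroup.centralizer ({z0} : Set ↥M24)) ≃*
      ↥(Subgroup.centralizer ({s} : Set (Matrix.SpecialLinearGroup (Fin 5) (ZMod 2))))) := by
  apply iso_of_split Q0 K0 (Subgroup.centralizer ({z0} : Set ↥M24))
    (Subgroup.centralizer ({s} : Set (Matrix.SpecialLinearGroup (Fin 5) (ZMod 2))))
    K0_norm Q0_inter_K0 data0.Q_le data0.K_le ?_ (toSL5 homQ5) (toSL5 homK5) ?_ ?_ ?_ ?_ ?_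
  · rw [card_C, card_Q0, card_K0]
    norm_num
  · intro k q h
    apply Subtype.ext
    have e : (⟨(k : ↥M24) * q * (k : ↥M24)⁻¹, h⟩ : ↥Q0) = conjK k q := Subtype.ext rfl
    rw [e]
    exact compat_all k q
  · intro q
    rw [Cfsg.Agent.S0445.mem_cent_iff s _ hs, toSL5_val, homQ5_apply]
    exact phiQ_comm _ (caQ_good.idx_lt q)
  · intro k
    rw [Cfsg.Agent.S0445.mem_cent_iff s _ hs, toSL5_val, homK5_apply]
    exact phiK_comm _ (caK_good.idx_lt k)
  · intro q k h
    exact hom5_inj q k (congrArg Subtype.val h)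
  · rw [Cfsg.Agent.S0445.result s hs, card_Q0, card_K0]
    norm_num

end Cfsg.Agent.Helper9.C2A
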