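import Mathlib
import Cfsg.Prelude
import Cfsg.Agent.Helper9.C2A.Iso5

set_option autoImplicit false

/-! The centralizer in the group of the code of an involution that fixes the points of an octad is
isomorphic to a subgroup of at most the same order of any group that contains images of the
generators of the normal subgroup of order 128 and of the complement of order 168 which respect
the tables of successors and the conjugation. -/

namespace Cfsg.Agent.Helper9.C2A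

open Cfsg Cfsg.Agent.Helper9.Golay

/-- as `iso_of_split`, with an upper bound for the order of the second subgroup. -/
theorem iso_of_split_le {G H : Type*} [Group G] [Group H] [Finite G] [Finite H]
    (Q K C : Subgroup G) (D : Subgroup H)
    (hn : ∀ k ∈ K, ∀ q ∈ Q, k * q * k⁻¹ ∈ Q)
    (hQK : ∀ x ∈ Q, x ∈ K → x = 1)
    (hQC : Q ≤ C) (hKC : K ≤ C) (hC : Nat.card C = Nat.card Q * Nat.card K)
    (f₁ : Q →* H) (f₂ : K →* H)
    (hcompat : ∀ (k : K) (q : Q) (h : (k : G) * q * (k : G)⁻¹ ∈ Q),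
      f₁ ⟨(k : G) * q * (k : G)⁻¹, h⟩ * f₂ k = f₂ k * f₁ q)
    (hf₁ : ∀ q, f₁ q ∈ D) (hf₂ : ∀ k, f₂ k ∈ D)
    (hinj : ∀ (q : Q) (k : K), f₁ q = f₂ k → q = 1 ∧ k = 1)
    (hD : Nat.card D ≤ Nat.card Q * Nat.card K) : Nonempty (C ≃* D) := by
  -- the subgroup generated by the images has the order of the first subgroup
  let D' : Subgroup H := f₁.range ⊔ f₂.range
  have hD' : D' ≤ D := by
    apply sup_le
    · rintro _ ⟨q, rfl⟩
      exact hf₁ q
    · rintro _ ⟨k, rfl⟩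
      exact hf₂ k
  obtain ⟨e⟩ := iso_of_split Q K C D hn hQK hQC hKC hC f₁ f₂ hcompat hf₁ hf₂ hinj (by
    apply le_antisymm hD
    -- the images of the products are distinct
    have hinj' : Function.Injective (fun x : Q × K => (⟨f₁ x.1 * f₂ x.2,
        D.mul_mem (hf₁ _) (hf₂ _)⟩ : D)) := by
      intro x y h
      have h0 : f₁ x.1 * f₂ x.2 = f₁ y.1 * f₂ y.2 := congrArg Subtype.val h
      have h1 : f₁ (y.1⁻¹ * x.1) = f₂ (y.2 * x.2⁻¹) := by
        rw [map_mul, map_mul, map_inv, map_inv]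
        calc (f₁ y.1)⁻¹ * f₁ x.1 = (f₁ y.1)⁻¹ * (f₁ x.1 * f₂ x.2) * (f₂ x.2)⁻¹ := by group
          _ = (f₁ y.1)⁻¹ * (f₁ y.1 * f₂ y.2) * (f₂ x.2)⁻¹ := by rw [h0]
          _ = f₂ y.2 * (f₂ x.2)⁻¹ := by group
      obtain ⟨h2, h3⟩ := hinj _ _ h1
      apply Prod.ext
      · exact (inv_mul_eq_one.mp h2).symm
      · exact (mul_inv_eq_one.mp h3).symm
    have := Nat.card_le_card_of_injective _ hinj'
    rwa [Nat.card_prod] at this)
  exact ⟨e⟩

section

variable {H : Type*} [Group H] (f₁ : ↥Q0 →* H) (f₂ : ↥K0 →* H)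

/-- the elements of the complement for which the images are compatible with the conjugation. -/
def compatSubG : Subgroup ↥K0 where
  carrier := {k | ∀ q : ↥Q0, f₁ (conjK k q) * f₂ k = f₂ k * f₁ q}
  one_mem' := by
    intro q
    rw [map_one, map_one, MulAut.one_apply, mul_one, one_mul]
  mul_mem' := by
    intro a b ha hb q
    rw [map_mul conjK, MulAut.mul_apply, map_mul f₂, ← mul_assoc, ha, mul_assoc, hb, mul_assoc]
  inv_mem' := by
    intro a ha q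
    have h := ha (conjK a⁻¹ q)
    rw [← MulAut.mul_apply, ← map_mul conjK, mul_inv_cancel, map_one, MulAut.one_apply] at h
    have h1 : f₂ a⁻¹ * f₂ a = 1 := by rw [← map_mul, inv_mul_cancel, map_one]
    have h2 : f₂ a * f₂ a⁻¹ = 1 := by rw [← map_mul, mul_inv_cancel, map_one]
    calc f₁ (conjK a⁻¹ q) * f₂ a⁻¹
        = f₂ a⁻¹ * (f₂ a * f₁ (conjK a⁻¹ q)) * f₂ a⁻¹ := by
          rw [← mul_assoc, h1, one_mul]
      _ = f₂ a⁻¹ * (f₁ q * f₂ a) * f₂ a⁻¹ := by rw [h]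
      _ = f₂ a⁻¹ * f₁ q := by rw [mul_assoc, mul_assoc, h2, mul_one]

variable (φQ φK : ℕ → H) (hf₁ : ∀ q, f₁ q = φQ (caQ_good.idx q))
  (hf₂ : ∀ k, f₂ k = φK (caK_good.idx k))
  (htrip : ∀ e ∈ caTrip, φQ e.2.2 * φK e.1 = φK e.1 * φQ e.2.1)

include hf₁ hf₂ htrip

theorem gen_compatG {ks qs : List ℕ} (hks : ks ∈ caK.gens) (hqs : qs ∈ caQ.gens)
    (k : ↥K0) (q : ↥Q0) (hk : IsTbl ((k : ↥M24) : Equiv.Perm GolayPt) ks)
    (hq : IsTbl ((q : ↥M24) : Equiv.Perm GolayPt) qs) :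
    f₁ (conjK k q) * f₂ k = f₂ k * f₁ q := by
  have h1 := List.all_eq_true.mp (List.all_eq_true.mp ca_trip_cover ks hks) qs hqs
  rw [List.any_eq_true] at h1
  obtain ⟨e, he, h2⟩ := h1
  rw [Bool.and_eq_true, beq_iff_eq, beq_iff_eq] at h2
  obtain ⟨hlk, hlq, hly, hmul, -⟩ := ca_trip_ok e he
  have ik : caK_good.idx k = e.1 := caK_good.idx_eq k hlk (h2.1 ▸ hk)
  have iq : caQ_good.idx q = e.2.1 := caQ_good.idx_eq q hlq (h2.2 ▸ hq)
  obtain ⟨y, hy, hyt⟩ := exists_Q0_of_tab ((caQ.mem_tabs _).mpr ⟨_, hly, rfl⟩)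
  have e1 : y * (k : ↥M24) = (k : ↥M24) * q := by
    apply eq_of_tbl (tbl_mul hyt (h2.1 ▸ hk))
    rw [hmul]
    exact tbl_mul (h2.1 ▸ hk) (h2.2 ▸ hq)
  have e2 : ((conjK k q : ↥Q0) : ↥M24) = y := by
    rw [conjK_val, ← e1, mul_inv_cancel_right]
  have iy : caQ_good.idx (conjK k q) = e.2.2 := by
    apply caQ_good.idx_eq _ hly
    rw [e2]
    exact hyt
  rw [hf₁, hf₁, hf₂, ik, iq, iy]
  exact htrip e he

theorem compat_gen_allG {ks : List ℕ} (hks : ks ∈ caK.gens) (k : ↥K0)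
    (hk : IsTbl ((k : ↥M24) : Equiv.Perm GolayPt) ks) (q : ↥Q0) :
    f₁ (conjK k q) * f₂ k = f₂ k * f₁ q := by
  -- the elements of the normal subgroup for which the equation holds form a subgroup
  let B : Subgroup ↥Q0 :=
    { carrier := {q | f₁ (conjK k q) * f₂ k = f₂ k * f₁ q}
      one_mem' := by
        change f₁ (conjK k 1) * f₂ k = f₂ k * f₁ 1
        rw [map_one, map_one, mul_one, one_mul]
      mul_mem' := by
        intro a b ha hb
        change f₁ (conjK k (a * b)) * f₂ k = f₂ k * f₁ (a * b)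
        change f₁ (conjK k a) * f₂ k = f₂ k * f₁ a at ha
        change f₁ (conjK k b) * f₂ k = f₂ k * f₁ b at hb
        rw [map_mul (conjK k), map_mul f₁, map_mul f₁, mul_assoc, hb, ← mul_assoc, ha,
          mul_assoc]
      inv_mem' := by
        intro a ha
        change f₁ (conjK k a⁻¹) * f₂ k = f₂ k * f₁ a⁻¹
        change f₁ (conjK k a) * f₂ k = f₂ k * f₁ a at ha
        have h1 : f₁ (conjK k a⁻¹) * f₁ (conjK k a) = 1 := by
          rw [← map_mul f₁, ← map_mul (conjK k), inv_mul_cancel, map_one, map_one]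
        have h2 : f₁ a * f₁ a⁻¹ = 1 := by rw [← map_mul, mul_inv_cancel, map_one]
        calc f₁ (conjK k a⁻¹) * f₂ k
            = f₁ (conjK k a⁻¹) * (f₂ k * f₁ a) * f₁ a⁻¹ := by
              rw [mul_assoc, mul_assoc, h2, mul_one]
          _ = f₁ (conjK k a⁻¹) * (f₁ (conjK k a) * f₂ k) * f₁ a⁻¹ := by rw [ha]
          _ = f₂ k * f₁ a⁻¹ := by rw [← mul_assoc, h1, one_mul] }
  have hB : Q0 ≤ B.map Q0.subtype := by
    apply Q0_le
    intro qs hqs x hx
    have hxQ : x ∈ Q0 := ⟨qs, gens_mem_tabs hqs, hx⟩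
    exact ⟨⟨x, hxQ⟩, gen_compatG f₁ f₂ φQ φK hf₁ hf₂ htrip hks hqs k ⟨x, hxQ⟩ hk hx, rfl⟩
  obtain ⟨q', hq', e⟩ := hB q.2
  have : q' = q := Subtype.ext e
  rw [← this]
  exact hq'

theorem compat_allG (k : ↥K0) (q : ↥Q0) : f₁ (conjK k q) * f₂ k = f₂ k * f₁ q := by
  have hA : K0 ≤ (compatSubG f₁ f₂).map K0.subtype := by
    apply K0_le
    intro ks hks x hx
    have hxK : x ∈ K0 := ⟨ks, caK_gens_mem_tabs hks, hx⟩
    exact ⟨⟨x, hxK⟩, fun q => compat_gen_allG f₁ f₂ φQ φK hf₁ hf₂ htrip hks ⟨x, hxK⟩ hx q, rfl⟩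
  obtain ⟨k', hk', e⟩ := hA k.2
  have : k' = k := Subtype.ext e
  rw [← this]
  exact hk' q

end

/-- the image of a generator under a map respecting the successors. -/
theorem idx_gen {G : Packed} (h : G.Good) {s : List ℕ} (hs : s ∈ G.gens) (x : h.sub)
    (hx : IsTbl ((x : ↥M24) : Equiv.Perm GolayPt) s) :
    ∃ k, k < G.gens.length ∧ h.idx x = G.nextOf G.z k := by
  obtain ⟨k, hk, rfl⟩ := List.mem_iff_getElem.mp hs
  refine ⟨k, hk, ?_⟩
  obtain ⟨hn1, hn2⟩ := h.next_facts h.z_facts.1 hk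
  apply h.idx_eq x hn1
  rw [← hn2, h.z_facts.2, List.getD_eq_getElem _ _ hk]
  have h1 : IsTbl (((1 : ↥M24) * (x : ↥M24) : ↥M24) : Equiv.Perm GolayPt) (mulT idT G.gens[k]) :=
    tbl_mul tbl_one hx
  rwa [one_mul] at h1

/-- the isomorphism of the centralizer of the involution with a subgroup of at most the same
order containing the images of the generators. -/
theorem iso_of_maps {H : Type*} [Group H] [Finite H] (D : Subgroup H)
    (φQ γQ φK γK : ℕ → H)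
    (hQ1 : φQ caQ.z = 1)
    (hQn : ∀ i < caQ.n, ∀ k < caQ.gens.length, φQ (caQ.nextOf i k) = φQ i * γQ k)
    (hK1 : φK caK.z = 1)
    (hKn : ∀ i < caK.n, ∀ k < caK.gens.length, φK (caK.nextOf i k) = φK i * γK k)
    (htrip : ∀ e ∈ caTrip, φQ e.2.2 * φK e.1 = φK e.1 * φQ e.2.1)
    (hQD : ∀ k < caQ.gens.length, γQ k ∈ D) (hKD : ∀ k < caK.gens.length, γK k ∈ D)
    (hinj : ∀ i < caQ.n, ∀ j < caK.n, φQ i = φK j → i = caQ.z ∧ j = caK.z)
    (hD : Nat.card D ≤ 21504) :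
    Nonempty (↥(Subgroup.centralizer ({z0} : Set ↥M24)) ≃* ↥D) := by
  let f₁ : ↥Q0 →* H := caQ_good.toHom φQ γQ hQ1 hQn
  let f₂ : ↥K0 →* H := caK_good.toHom φK γK hK1 hKn
  have hf₁ : ∀ q, f₁ q = φQ (caQ_good.idx q) := fun _ => rfl
  have hf₂ : ∀ k, f₂ k = φK (caK_good.idx k) := fun _ => rfl
  have hm₁ : ∀ q, f₁ q ∈ D := by
    intro q
    have hB : Q0 ≤ (D.comap f₁).map Q0.subtype := by
      apply Q0_le
      intro qs hqs x hx
      have hxQ : x ∈ Q0 := ⟨qs, gens_mem_tabs hqs, hx⟩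
      refine ⟨⟨x, hxQ⟩, ?_, rfl⟩
      obtain ⟨k, hk, hi⟩ := idx_gen caQ_good hqs ⟨x, hxQ⟩ hx
      change f₁ ⟨x, hxQ⟩ ∈ D
      have hi' : f₁ ⟨x, hxQ⟩ = φQ (caQ.nextOf caQ.z k) := (hf₁ ⟨x, hxQ⟩).trans (congrArg φQ hi)
      rw [hi', hQn _ caQ_good.z_facts.1 _ hk, hQ1, one_mul]
      exact hQD k hk
    obtain ⟨q', hq', e⟩ := hB q.2
    have : q' = q := Subtype.ext e
    rw [← this]
    exact hq'
  have hm₂ : ∀ k, f₂ k ∈ D := by
    intro q
    have hB : K0 ≤ (D.comap f₂).map K0.subtype := by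
      apply K0_le
      intro qs hqs x hx
      have hxQ : x ∈ K0 := ⟨qs, caK_gens_mem_tabs hqs, hx⟩
      refine ⟨⟨x, hxQ⟩, ?_, rfl⟩
      obtain ⟨k, hk, hi⟩ := idx_gen caK_good hqs ⟨x, hxQ⟩ hx
      change f₂ ⟨x, hxQ⟩ ∈ D
      have hi' : f₂ ⟨x, hxQ⟩ = φK (caK.nextOf caK.z k) := (hf₂ ⟨x, hxQ⟩).trans (congrArg φK hi)
      rw [hi', hKn _ caK_good.z_facts.1 _ hk, hK1, one_mul]
      exact hKD k hk
    obtain ⟨q', hq', e⟩ := hB q.2
    have : q' = q := Subtype.ext e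
    rw [← this]
    exact hq'
  apply iso_of_split_le Q0 K0 (Subgroup.centralizer ({z0} : Set ↥M24)) D
    K0_norm Q0_inter_K0 data0.Q_le data0.K_le ?_ f₁ f₂ ?_ hm₁ hm₂ ?_ ?_
  · rw [card_C, card_Q0, card_K0]
    norm_num
  · intro k q h
    have e : (⟨(k : ↥M24) * q * (k : ↥M24)⁻¹, h⟩ : ↥Q0) = conjK k q := Subtype.ext rfl
    rw [e]
    exact compat_allG f₁ f₂ φQ φK hf₁ hf₂ htrip k q
  · intro q k h
    rw [hf₁, hf₂] at h
    obtain ⟨h1, h2⟩ := hinj _ (caQ_good.idx_lt q) _ (caK_good.idx_lt k) h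
    constructor
    · have hs := caQ_good.idx_spec q
      rw [h1, caQ_good.z_facts.2] at hs
      exact Subtype.ext (eq_one_of_tbl hs)
    · have hs := caK_good.idx_spec k
      rw [h2, caK_good.z_facts.2] at hs
      exact Subtype.ext (eq_one_of_tbl hs)
  · rw [card_Q0, card_K0]
    exact le_trans hD (by norm_num)

end Cfsg.Agent.Helper9.C2A
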